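import Mathlib.RingTheory.HopfAlgebra.Basic
import Mathlib.RingTheory.TensorProduct.Maps
import Mathlib.RingTheory.Ideal.Maps
import Mathlib.LinearAlgebra.Basis.VectorSpace
import Groth.Agent.UnitRigidLib.Tensor

/-!
# Primitive invertible ideals of a Hopf algebra: normalisation and associativity

An ideal `I` of an affine Hopf domain is primitive when there is a semilinear map `δ : I → A ⊗ A`
(along comultiplication) whose image generates `I ⊠ I`.
-/

set_option autoImplicit false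
set_option linter.style.haveILetI false
set_option maxHeartbeats 1000000

noncomputable section

universe u

open TensorProduct
open scoped TensorProduct Pointwise

namespace Groth.Agent.FinPicGrp

/-- Two generators of the same invertible ideal image differ by a unit. -/
theorem exists_unit_of_mul_eq {R : Type*} [CommRing R] [IsDomain R] {L L' : Ideal R} {c : R} (hc : c ≠ 0)
    (hL : L * L' = Ideal.span {c}) {x y : R} (h : Ideal.span {x} * L = Ideal.span {y} * L) :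
    ∃ w : Rˣ, y = w * x := by
  have h' := congrArg (· * L') h
  simp only [mul_assoc, hL, Ideal.span_singleton_mul_span_singleton] at h'
  obtain ⟨w, hw⟩ := Ideal.span_singleton_eq_span_singleton.1 h'
  refine ⟨w, mul_right_cancel₀ hc ?_⟩
  rw [← hw]; ring

variable {k : Type u} [Field k] {A : Type u} [CommRing A] [HopfAlgebra k A]

/-- Two semilinear maps with the same invertible span differ by a unit. -/
theorem exists_unit_of_semilinear {R : Type*} [CommRing R] [IsDomain R] [IsDomain A] {L L' : Ideal R} {c : R}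
    (hc : c ≠ 0) (hL : L * L' = Ideal.span {c}) {I : Ideal A} (Φ : A →+* R) (hΦ : Function.Injective Φ)
    (D₁ D₂ : I → R) (h₁ : ∀ (x : A) (a : I), D₁ (x • a) = Φ x * D₁ a)
    (h₂ : ∀ (x : A) (a : I), D₂ (x • a) = Φ x * D₂ a)
    (s₁ : Ideal.span (Set.range D₁) = L) (s₂ : Ideal.span (Set.range D₂) = L) :
    ∃ w : Rˣ, ∀ a, D₂ a = w * D₁ a := by
  have hL0 : L ≠ ⊥ := by
    rintro rfl
    rw [Ideal.bot_mul] at hL
    exact hc (Ideal.span_singleton_eq_bot.1 hL.symm)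
  have cross₁ : ∀ a b : I, Φ a * D₁ b = Φ b * D₁ a := fun a b => by
    rw [← h₁, ← h₁]; exact congrArg D₁ (Subtype.ext (mul_comm _ _))
  have cross₂ : ∀ a b : I, Φ a * D₂ b = Φ b * D₂ a := fun a b => by
    rw [← h₂, ← h₂]; exact congrArg D₂ (Subtype.ext (mul_comm _ _))
  obtain ⟨a₀, ha₀, hne⟩ : ∃ a : I, D₁ a ≠ 0 ∧ (a : A) ≠ 0 := by
    by_contra hn
    push Not at hn
    refine hL0 (eq_bot_iff.2 (s₁ ▸ Ideal.span_le.2 ?_))
    rintro _ ⟨a, rfl⟩
    by_contra ha
    have ha' : (a : A) = 0 := hn a ha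
    refine ha (show D₁ a = 0 from ?_)
    have h := h₁ 0 a
    rwa [zero_smul, map_zero, zero_mul, show (0 : I) = a from Subtype.ext ha'.symm] at h
  have hΦ0 : Φ a₀ ≠ 0 := (map_ne_zero_iff Φ hΦ).2 hne
  have key : ∀ a, D₁ a₀ * D₂ a = D₂ a₀ * D₁ a := fun a => by
    refine mul_left_cancel₀ hΦ0 ?_
    linear_combination D₁ a₀ * cross₂ a₀ a - D₂ a₀ * cross₁ a₀ a
  have hspan : Ideal.span {D₁ a₀} * L = Ideal.span {D₂ a₀} * L := by
    conv_lhs => rw [← s₂]
    conv_rhs => rw [← s₁]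
    rw [Ideal.span_mul_span', Ideal.span_mul_span', Set.singleton_mul, Set.singleton_mul]
    congr 1
    rw [← Set.range_comp, ← Set.range_comp]
    exact congrArg Set.range (funext key)
  obtain ⟨w, hw⟩ := exists_unit_of_mul_eq hc hL hspan
  refine ⟨w, fun a => mul_left_cancel₀ ha₀ ?_⟩
  rw [key a, hw]; ring

variable (k A) in
/-- Evaluation of the first factor at the identity. -/
def e₁ (B : Type u) [CommRing B] [Algebra k B] : A ⊗[k] B →ₐ[k] B :=
  (Algebra.TensorProduct.lid k B).toAlgHom.comp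
    (Algebra.TensorProduct.map (Bialgebra.counitAlgHom k A) (AlgHom.id k B))

@[simp] theorem e₁_tmul {B : Type u} [CommRing B] [Algebra k B] (a : A) (b : B) :
    e₁ k A B (a ⊗ₜ b) = Bialgebra.counitAlgHom k A a • b := by
  simp [e₁]

variable (k A) in
/-- Evaluation of the second factor at the identity. -/
def e₂ : A ⊗[k] A →ₐ[k] A :=
  (Algebra.TensorProduct.rid k k A).toAlgHom.comp
    (Algebra.TensorProduct.map (AlgHom.id k A) (Bialgebra.counitAlgHom k A))

@[simp] theorem e₂_tmul (a b : A) : e₂ k A (a ⊗ₜ b) = Bialgebra.counitAlgHom k A b • a := by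
  simp [e₂]

theorem e₁_comul (x : A) : e₁ k A A (Bialgebra.comulAlgHom k A x) = x := by
  have h : ∀ z : A ⊗[k] A, e₁ k A A z = TensorProduct.lid k A ((CoalgebraStruct.counit (R := k)).rTensor A z) := by
    intro z
    induction z using TensorProduct.induction_on with
    | zero => simp
    | tmul a b => simp
    | add a b ha hb => simp only [map_add, ha, hb]
  rw [h, Bialgebra.comulAlgHom_apply, Coalgebra.rTensor_counit_comul, TensorProduct.lid_tmul, one_smul]

theorem e₂_comul (x : A) : e₂ k A (Bialgebra.comulAlgHom k A x) = x := by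
  have h : ∀ z : A ⊗[k] A, e₂ k A z = TensorProduct.rid k A ((CoalgebraStruct.counit (R := k)).lTensor A z) := by
    intro z
    induction z using TensorProduct.induction_on with
    | zero => simp
    | tmul a b => simp
    | add a b ha hb => simp only [map_add, ha, hb]
  rw [h, Bialgebra.comulAlgHom_apply, Coalgebra.lTensor_counit_comul, TensorProduct.rid_tmul, one_smul]

theorem comul_injective : Function.Injective (Bialgebra.comulAlgHom k A) :=
  Function.LeftInverse.injective e₁_comul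

variable (k A) in
/-- The product ideal `I ⊠ S`. -/
def box {B : Type u} [CommRing B] [Algebra k B] (I : Ideal A) (K : Ideal B) : Ideal (A ⊗[k] B) :=
  I.map (Algebra.TensorProduct.includeLeft : A →ₐ[k] A ⊗[k] B) *
    K.map (Algebra.TensorProduct.includeRight : B →ₐ[k] A ⊗[k] B)

theorem box_eq_span {B : Type u} [CommRing B] [Algebra k B] (I : Ideal A) (S : Set B) :
    box k A I (Ideal.span S) = Ideal.span {z : A ⊗[k] B | ∃ a ∈ I, ∃ s ∈ S, z = a ⊗ₜ s} := by
  rw [box, Ideal.map_span, Ideal.map, Ideal.span_mul_span']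
  congr 1
  ext z
  constructor
  · rintro ⟨_, ⟨a, ha, rfl⟩, _, ⟨s, hs, rfl⟩, rfl⟩
    exact ⟨a, ha, s, hs, by simp⟩
  · rintro ⟨a, ha, s, hs, rfl⟩
    exact ⟨_, ⟨a, ha, rfl⟩, _, ⟨s, hs, rfl⟩, by simp⟩

theorem box_eq_span' {B : Type u} [CommRing B] [Algebra k B] (I : Ideal A) (K : Ideal B) :
    box k A I K = Ideal.span {z : A ⊗[k] B | ∃ a ∈ I, ∃ s ∈ K, z = a ⊗ₜ s} := by
  conv_lhs => rw [← Ideal.span_eq K]
  exact box_eq_span I (K : Set B)

theorem box_inv {B : Type u} [CommRing B] [Algebra k B] {I J : Ideal A} {c : A} (h : I * J = Ideal.span {c})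
    {K K' : Ideal B} {d : B} (h' : K * K' = Ideal.span {d}) :
    box k A I K * box k A J K' = Ideal.span {c ⊗ₜ[k] d} := by
  rw [box, box, mul_mul_mul_comm, ← Ideal.map_mul, ← Ideal.map_mul, h, h', Ideal.map_span, Ideal.map_span,
    Set.image_singleton, Set.image_singleton, Ideal.span_singleton_mul_span_singleton]
  simp

theorem tmul_ne_zero' {B : Type u} [CommRing B] [Algebra k B] {a : A} {b : B} (ha : a ≠ 0) (hb : b ≠ 0) :
    a ⊗ₜ[k] b ≠ 0 := by
  obtain ⟨f, hf⟩ := Module.Projective.exists_dual_ne_zero k ha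
  intro h
  have h' := congrArg (fun z => TensorProduct.lid k B (TensorProduct.map f LinearMap.id z)) h
  simp [hf, hb] at h'

variable (k A) in
/-- Associativity. -/
def assocA : (A ⊗[k] A) ⊗[k] A →ₐ[k] A ⊗[k] (A ⊗[k] A) :=
  (Algebra.TensorProduct.assoc k k k A A A).toAlgHom

@[simp] theorem assocA_tmul (a b c : A) : assocA k A ((a ⊗ₜ b) ⊗ₜ c) = a ⊗ₜ (b ⊗ₜ c) := rfl

variable (k A) in
/-- (Δ ⊗ 1), reassociated. -/
def Φ₁ : A ⊗[k] A →ₐ[k] A ⊗[k] (A ⊗[k] A) :=
  (assocA k A).comp (Algebra.TensorProduct.map (Bialgebra.comulAlgHom k A) (AlgHom.id k A))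

variable (k A) in
/-- (1 ⊗ Δ). -/
def Φ₂ : A ⊗[k] A →ₐ[k] A ⊗[k] (A ⊗[k] A) :=
  Algebra.TensorProduct.map (AlgHom.id k A) (Bialgebra.comulAlgHom k A)

theorem Φ₁_comul (x : A) :
    Φ₁ k A (Bialgebra.comulAlgHom k A x) = Φ₂ k A (Bialgebra.comulAlgHom k A x) := by
  have h₁ : ∀ z : A ⊗[k] A, Φ₁ k A z =
      TensorProduct.assoc k A A A ((CoalgebraStruct.comul (R := k)).rTensor A z) := by
    intro z
    induction z using TensorProduct.induction_on with
    | zero => simp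
    | tmul a b =>
      simp only [Φ₁, assocA, AlgHom.comp_apply, Algebra.TensorProduct.map_tmul, AlgHom.id_apply,
        Bialgebra.comulAlgHom_apply, LinearMap.rTensor_tmul]
      rfl
    | add a b ha hb => simp only [map_add, ha, hb]
  have h₂ : ∀ z : A ⊗[k] A, Φ₂ k A z = (CoalgebraStruct.comul (R := k)).lTensor A z := by
    intro z
    induction z using TensorProduct.induction_on with
    | zero => simp
    | tmul a b => simp [Φ₂]
    | add a b ha hb => simp only [map_add, ha, hb]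
  rw [h₁, h₂, Bialgebra.comulAlgHom_apply, Coalgebra.coassoc_apply]

/-- A primitive structure on an ideal. -/
structure Prim (I : Ideal A) (δ : A →ₗ[k] A ⊗[k] A) : Prop where
  semi : ∀ (x a : A), a ∈ I → δ (x * a) = Bialgebra.comulAlgHom k A x * δ a
  span : Ideal.span (δ '' I) = box k A I I

variable {I : Ideal A} {δ : A →ₗ[k] A ⊗[k] A}

theorem Prim.mem (h : Prim I δ) {a : A} (ha : a ∈ I) : δ a ∈ box k A I I :=
  h.span ▸ Ideal.subset_span ⟨a, ha, rfl⟩

/-- Functoriality of the span. -/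
theorem Prim.map_span (h : Prim I δ) {B : Type u} [CommRing B] [Algebra k B] (e : A ⊗[k] A →ₐ[k] B) :
    Ideal.span ((fun a => e (δ a)) '' I) = (box k A I I).map e := by
  rw [← h.span, Ideal.map_span, ← Set.image_comp]
  rfl

theorem map_e₁_box (hε : ∃ a ∈ I, Bialgebra.counitAlgHom k A a ≠ 0) : (box k A I I).map (e₁ k A A) = I := by
  obtain ⟨a₁, ha₁, he⟩ := hε
  rw [box_eq_span', Ideal.map_span]
  refine le_antisymm (Ideal.span_le.2 ?_) fun b hb => ?_
  · rintro _ ⟨_, ⟨a, -, b, hb, rfl⟩, rfl⟩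
    rw [e₁_tmul, Algebra.smul_def]
    exact I.mul_mem_left _ hb
  · have : e₁ k A A (a₁ ⊗ₜ b) ∈ Ideal.span (e₁ k A A '' {z | ∃ a ∈ I, ∃ s ∈ I, z = a ⊗ₜ[k] s}) :=
      Ideal.subset_span ⟨_, ⟨a₁, ha₁, b, hb, rfl⟩, rfl⟩
    rw [e₁_tmul, Algebra.smul_def] at this
    have h2 := Ideal.mul_mem_left _ (algebraMap k A (Bialgebra.counitAlgHom k A a₁)⁻¹) this
    rwa [← mul_assoc, ← map_mul, inv_mul_cancel₀ he, map_one, one_mul] at h2

theorem map_e₂_box (hε : ∃ a ∈ I, Bialgebra.counitAlgHom k A a ≠ 0) : (box k A I I).map (e₂ k A) = I := by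
  obtain ⟨a₁, ha₁, he⟩ := hε
  rw [box_eq_span', Ideal.map_span]
  refine le_antisymm (Ideal.span_le.2 ?_) fun b hb => ?_
  · rintro _ ⟨_, ⟨a, ha, b, -, rfl⟩, rfl⟩
    rw [e₂_tmul, Algebra.smul_def]
    exact I.mul_mem_left _ ha
  · have : e₂ k A (b ⊗ₜ a₁) ∈ Ideal.span (e₂ k A '' {z | ∃ a ∈ I, ∃ s ∈ I, z = a ⊗ₜ[k] s}) :=
      Ideal.subset_span ⟨_, ⟨b, hb, a₁, ha₁, rfl⟩, rfl⟩
    rw [e₂_tmul, Algebra.smul_def] at this
    have h2 := Ideal.mul_mem_left _ (algebraMap k A (Bialgebra.counitAlgHom k A a₁)⁻¹) this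
    rwa [← mul_assoc, ← map_mul, inv_mul_cancel₀ he, map_one, one_mul] at h2

theorem counit_e₁ (z : A ⊗[k] A) :
    Bialgebra.counitAlgHom k A (e₁ k A A z) = Bialgebra.counitAlgHom k A (e₂ k A z) := by
  induction z using TensorProduct.induction_on with
  | zero => simp
  | tmul a b => simp [mul_comm]
  | add a b ha hb => simp only [map_add, ha, hb]

theorem span_image_eq_range {R : Type*} [CommRing R] (D : A → R) :
    Ideal.span (Set.range fun a : I => D a) = Ideal.span (D '' I) :=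
  congrArg Ideal.span (Set.image_eq_range D (I : Set A)).symm

theorem Prim.smul (h : Prim I δ) (w : (A ⊗[k] A)ˣ) :
    Prim I ((LinearMap.mulLeft k (w : A ⊗[k] A)).comp δ) where
  semi x a ha := by
    show (w : A ⊗[k] A) * δ (x * a) = _ * ((w : A ⊗[k] A) * δ a)
    rw [h.semi x a ha]; ring
  span := by
    show Ideal.span ((fun a => (w : A ⊗[k] A) * δ a) '' I) = _
    rw [show ((fun a => (w : A ⊗[k] A) * δ a) '' (I : Set A)) = {(w : A ⊗[k] A)} * (δ '' I) by
        rw [Set.singleton_mul, ← Set.image_comp]; rfl,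
      ← Ideal.span_mul_span', h.span, Ideal.span_singleton_eq_top.2 w.isUnit, Ideal.top_mul]

/-- Normalisation along both axes. -/
theorem Prim.exists_normalised [IsDomain A] (h : Prim I δ) {J : Ideal A} {c : A} (hc : c ≠ 0)
    (hIJ : I * J = Ideal.span {c}) (hε : ∃ a ∈ I, Bialgebra.counitAlgHom k A a ≠ 0) :
    ∃ δ' : A →ₗ[k] A ⊗[k] A, Prim I δ' ∧ (∀ a ∈ I, e₁ k A A (δ' a) = a) ∧ ∀ a ∈ I, e₂ k A (δ' a) = a := by
  have axis : ∀ {δ : A →ₗ[k] A ⊗[k] A}, Prim I δ → ∀ e : A ⊗[k] A →ₐ[k] A,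
      (∀ x, e (Bialgebra.comulAlgHom k A x) = x) → (box k A I I).map e = I →
      ∃ u : Aˣ, ∀ a ∈ I, e (δ a) = u * a := by
    intro δ h e he hb
    obtain ⟨u, hu⟩ := exists_unit_of_semilinear hc hIJ (RingHom.id A) (fun _ _ => id)
      (fun a : I => (a : A)) (fun a : I => e (δ a)) (fun x a => rfl) (fun x a => by
        show e (δ (x * a)) = x * e (δ a)
        rw [h.semi x a a.2, map_mul, he])
      ((span_image_eq_range (fun a => a)).trans (by rw [Set.image_id', Ideal.span_eq]))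
      ((span_image_eq_range (fun a => e (δ a))).trans ((h.map_span e).trans hb))
    exact ⟨u, fun a ha => hu ⟨a, ha⟩⟩
  obtain ⟨u, hu⟩ := axis h (e₁ k A A) e₁_comul (map_e₁_box hε)
  let w₁ : (A ⊗[k] A)ˣ := Units.map
    ((Algebra.TensorProduct.includeRight : A →ₐ[k] A ⊗[k] A) : A →* A ⊗[k] A) u⁻¹
  let δ₁ := (LinearMap.mulLeft k (w₁ : A ⊗[k] A)).comp δ
  have h₁ : Prim I δ₁ := h.smul w₁
  have h11 : ∀ a ∈ I, e₁ k A A (δ₁ a) = a := fun a ha => by
    show e₁ k A A ((1 ⊗ₜ[k] ((u⁻¹ : Aˣ) : A)) * δ a) = a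
    rw [map_mul, e₁_tmul, map_one, one_smul, hu a ha, ← mul_assoc, Units.inv_mul, one_mul]
  obtain ⟨v, hv⟩ := axis h₁ (e₂ k A) e₂_comul (map_e₂_box hε)
  have hv1 : Bialgebra.counitAlgHom k A (v : A) = 1 := by
    obtain ⟨a, ha, he⟩ := hε
    have h2 := counit_e₁ (δ₁ a)
    rw [h11 a ha, hv a ha, map_mul] at h2
    exact (mul_eq_right₀ he).1 h2.symm
  have hv1' : Bialgebra.counitAlgHom k A ((v⁻¹ : Aˣ) : A) = 1 := by
    have h2 := congrArg (Bialgebra.counitAlgHom k A) v.inv_mul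
    rwa [map_mul, hv1, mul_one, map_one] at h2
  let w₂ : (A ⊗[k] A)ˣ := Units.map
    ((Algebra.TensorProduct.includeLeft : A →ₐ[k] A ⊗[k] A) : A →* A ⊗[k] A) v⁻¹
  refine ⟨(LinearMap.mulLeft k (w₂ : A ⊗[k] A)).comp δ₁, h₁.smul w₂, fun a ha => ?_, fun a ha => ?_⟩
  · show e₁ k A A ((((v⁻¹ : Aˣ) : A) ⊗ₜ[k] 1) * δ₁ a) = a
    rw [map_mul, e₁_tmul, hv1', one_smul, one_mul, h11 a ha]
  · show e₂ k A ((((v⁻¹ : Aˣ) : A) ⊗ₜ[k] 1) * δ₁ a) = a
    rw [map_mul, e₂_tmul, map_one, one_smul, hv a ha, ← mul_assoc, Units.inv_mul, one_mul]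

/-- δ ⊗ 1. -/
def G₁ (δ : A →ₗ[k] A ⊗[k] A) : A ⊗[k] A →ₗ[k] A ⊗[k] (A ⊗[k] A) :=
  (assocA k A).toLinearMap.comp (TensorProduct.map δ LinearMap.id)

/-- 1 ⊗ δ. -/
def G₂ (δ : A →ₗ[k] A ⊗[k] A) : A ⊗[k] A →ₗ[k] A ⊗[k] (A ⊗[k] A) :=
  TensorProduct.map LinearMap.id δ

theorem G₁_tmul (a b : A) : G₁ δ (a ⊗ₜ b) = assocA k A (δ a ⊗ₜ b) := rfl

theorem G₂_tmul (a b : A) : G₂ δ (a ⊗ₜ b) = a ⊗ₜ δ b := rfl

/-- Equality of linear maps on a product ideal. -/
theorem box_induction {Q : A ⊗[k] A → Prop} (h0 : Q 0) (hadd : ∀ z z', Q z → Q z' → Q (z + z'))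
    (hsmul : ∀ (y z : A ⊗[k] A), Q z → Q (y * z))
    (hb : ∀ a ∈ I, ∀ b ∈ I, Q (a ⊗ₜ b)) {z : A ⊗[k] A} (hz : z ∈ box k A I I) : Q z := by
  rw [box_eq_span'] at hz
  induction hz using Submodule.span_induction with
  | mem z hz => obtain ⟨a, ha, b, hb', rfl⟩ := hz; exact hb a ha b hb'
  | zero => exact h0
  | add z z' _ _ h h' => exact hadd z z' h h'
  | smul y z _ h => exact hsmul y z h

theorem Prim.G₁_mul (h : Prim I δ) (y : A ⊗[k] A) {z : A ⊗[k] A} (hz : z ∈ box k A I I) :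
    G₁ δ (y * z) = Φ₁ k A y * G₁ δ z := by
  revert y
  refine box_induction (Q := fun z => ∀ y, G₁ δ (y * z) = Φ₁ k A y * G₁ δ z) (by simp) ?_ ?_ ?_ hz
  · intro z z' h h' y; simp only [mul_add, map_add, h y, h' y]
  · intro r z h y
    rw [← mul_assoc, h, h r, map_mul, mul_assoc]
  · intro a ha b _ y
    induction y using TensorProduct.induction_on with
    | zero => simp
    | tmul x x' =>
      rw [Algebra.TensorProduct.tmul_mul_tmul, G₁_tmul, G₁_tmul, h.semi x a ha, Φ₁, AlgHom.comp_apply,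
        Algebra.TensorProduct.map_tmul, ← map_mul, Algebra.TensorProduct.tmul_mul_tmul]
      rfl
    | add y y' hy hy' => simp only [add_mul, map_add, hy, hy']

theorem Prim.G₂_mul (h : Prim I δ) (y : A ⊗[k] A) {z : A ⊗[k] A} (hz : z ∈ box k A I I) :
    G₂ δ (y * z) = Φ₂ k A y * G₂ δ z := by
  revert y
  refine box_induction (Q := fun z => ∀ y, G₂ δ (y * z) = Φ₂ k A y * G₂ δ z) (by simp) ?_ ?_ ?_ hz
  · intro z z' h h' y; simp only [mul_add, map_add, h y, h' y]
  · intro r z h y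
    rw [← mul_assoc, h, h r, map_mul, mul_assoc]
  · intro a _ b hb y
    induction y using TensorProduct.induction_on with
    | zero => simp
    | tmul x x' =>
      rw [Algebra.TensorProduct.tmul_mul_tmul, G₂_tmul, G₂_tmul, h.semi x' b hb, Φ₂,
        Algebra.TensorProduct.map_tmul, Algebra.TensorProduct.tmul_mul_tmul]
      rfl
    | add y y' hy hy' => simp only [add_mul, map_add, hy, hy']

theorem Prim.span_D (h : Prim I δ) (G : A ⊗[k] A →ₗ[k] A ⊗[k] (A ⊗[k] A)) (Φ : A ⊗[k] A →ₐ[k] A ⊗[k] (A ⊗[k] A))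
    (hG : ∀ (y : A ⊗[k] A) {z : A ⊗[k] A}, z ∈ box k A I I → G (y * z) = Φ y * G z)
    (hbase : Ideal.span {w | ∃ a ∈ I, ∃ b ∈ I, w = G (a ⊗ₜ b)} = box k A I (box k A I I)) :
    Ideal.span ((fun a => G (δ a)) '' I) = box k A I (box k A I I) := by
  have hcomb : ∀ z ∈ box k A I I, G z ∈ Ideal.span ((fun a => G (δ a)) '' I) := by
    intro z hz
    have hz' : z ∈ Ideal.span (δ '' I) := h.span.symm ▸ hz
    have key : z ∈ box k A I I ∧ G z ∈ Ideal.span ((fun a => G (δ a)) '' I) := by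
      clear hz
      induction hz' using Submodule.span_induction with
      | mem z hz => obtain ⟨a, ha, rfl⟩ := hz; exact ⟨h.mem ha, Ideal.subset_span ⟨a, ha, rfl⟩⟩
      | zero => exact ⟨zero_mem _, by simp⟩
      | add z z' _ _ h1 h2 => exact ⟨add_mem h1.1 h2.1, by rw [map_add]; exact add_mem h1.2 h2.2⟩
      | smul y z _ h1 =>
        refine ⟨Ideal.mul_mem_left _ y h1.1, ?_⟩
        rw [smul_eq_mul, hG y h1.1]
        exact Ideal.mul_mem_left _ _ h1.2
    exact key.2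
  have hin : ∀ z ∈ box k A I I, z ∈ box k A I I ∧ G z ∈ box k A I (box k A I I) := by
    intro z hz
    refine box_induction (Q := fun z => z ∈ box k A I I ∧ G z ∈ box k A I (box k A I I)) ⟨zero_mem _, by simp⟩
      (fun z z' h1 h2 => ⟨add_mem h1.1 h2.1, by rw [map_add]; exact add_mem h1.2 h2.2⟩)
      (fun y z h1 => ⟨Ideal.mul_mem_left _ y h1.1, by rw [hG y h1.1]; exact Ideal.mul_mem_left _ _ h1.2⟩) ?_ hz
    intro a ha b hb
    exact ⟨box_eq_span' (k := k) I I ▸ Ideal.subset_span ⟨a, ha, b, hb, rfl⟩,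
      hbase ▸ Ideal.subset_span ⟨a, ha, b, hb, rfl⟩⟩
  refine le_antisymm (Ideal.span_le.2 ?_) ?_
  · rintro _ ⟨a, ha, rfl⟩
    exact (hin _ (h.mem ha)).2
  · rw [← hbase, Ideal.span_le]
    rintro _ ⟨a, ha, b, hb, rfl⟩
    exact hcomb _ (box_eq_span' (k := k) I I ▸ Ideal.subset_span ⟨a, ha, b, hb, rfl⟩)

theorem Prim.base₁ (h : Prim I δ) :
    Ideal.span {w | ∃ a ∈ I, ∃ b ∈ I, w = G₁ δ (a ⊗ₜ b)} = box k A I (box k A I I) := by
  have e : box k A I (box k A I I) =
      Ideal.span {z : A ⊗[k] (A ⊗[k] A) | ∃ x ∈ I, ∃ y ∈ I, ∃ b ∈ I, z = x ⊗ₜ (y ⊗ₜ b)} := by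
    conv_lhs => enter [4]; rw [box_eq_span']
    rw [box_eq_span]
    congr 1
    ext z
    constructor
    · rintro ⟨x, hx, _, ⟨y, hy, b, hb, rfl⟩, rfl⟩; exact ⟨x, hx, y, hy, b, hb, rfl⟩
    · rintro ⟨x, hx, y, hy, b, hb, rfl⟩; exact ⟨x, hx, _, ⟨y, hy, b, hb, rfl⟩, rfl⟩
  rw [e]
  refine le_antisymm (Ideal.span_le.2 ?_) (Ideal.span_le.2 ?_)
  · rintro _ ⟨a, ha, b, hb, rfl⟩
    rw [G₁_tmul]
    refine box_induction (Q := fun q => assocA k A (q ⊗ₜ b) ∈ Ideal.span _) (by simp)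
      (fun q q' h1 h2 => by rw [TensorProduct.add_tmul, map_add]; exact add_mem h1 h2)
      (fun y q h1 => by
        rw [show (y * q) ⊗ₜ[k] b = (y ⊗ₜ 1) * (q ⊗ₜ b) by rw [Algebra.TensorProduct.tmul_mul_tmul, one_mul],
          map_mul]
        exact Ideal.mul_mem_left _ _ h1) ?_ (h.mem ha)
    intro x hx y hy
    exact Ideal.subset_span ⟨x, hx, y, hy, b, hb, assocA_tmul x y b⟩
  · rintro _ ⟨x, hx, y, hy, b, hb, rfl⟩
    rw [← assocA_tmul x y b]
    have hq : x ⊗ₜ[k] y ∈ Ideal.span (δ '' I) :=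
      h.span.symm ▸ box_eq_span' (k := k) I I ▸ Ideal.subset_span ⟨x, hx, y, hy, rfl⟩
    generalize x ⊗ₜ[k] y = q at hq
    induction hq using Submodule.span_induction with
    | mem q hq => obtain ⟨a, ha, rfl⟩ := hq; exact Ideal.subset_span ⟨a, ha, b, hb, (G₁_tmul a b).symm⟩
    | zero => simp
    | add q q' _ _ h1 h2 => rw [TensorProduct.add_tmul, map_add]; exact add_mem h1 h2
    | smul y q _ h1 =>
      rw [smul_eq_mul, show (y * q) ⊗ₜ[k] b = (y ⊗ₜ 1) * (q ⊗ₜ b) by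
        rw [Algebra.TensorProduct.tmul_mul_tmul, one_mul], map_mul]
      exact Ideal.mul_mem_left _ _ h1

theorem Prim.base₂ (h : Prim I δ) :
    Ideal.span {w | ∃ a ∈ I, ∃ b ∈ I, w = G₂ δ (a ⊗ₜ b)} = box k A I (box k A I I) := by
  conv_rhs => enter [4]; rw [← h.span]
  rw [box_eq_span]
  congr 1
  ext z
  constructor
  · rintro ⟨a, ha, b, hb, rfl⟩; exact ⟨a, ha, _, ⟨b, hb, rfl⟩, rfl⟩
  · rintro ⟨a, ha, _, ⟨b, hb, rfl⟩, rfl⟩; exact ⟨a, ha, b, hb, rfl⟩

variable [IsAlgClosed k] [IsDomain A] [Algebra.FiniteType k A] [IsDomain (A ⊗[k] A)]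
  [IsDomain (A ⊗[k] (A ⊗[k] A))]

/-- A normalised primitive structure is coassociative. -/
theorem Prim.coassoc (h : Prim I δ) {J : Ideal A} {c : A} (hc : c ≠ 0) (hIJ : I * J = Ideal.span {c})
    (n₁ : ∀ a ∈ I, e₁ k A A (δ a) = a) (n₂ : ∀ a ∈ I, e₂ k A (δ a) = a) :
    ∀ a ∈ I, G₁ δ (δ a) = G₂ δ (δ a) := by
  let Φ : A →+* A ⊗[k] (A ⊗[k] A) := ((Φ₂ k A).comp (Bialgebra.comulAlgHom k A)).toRingHom
  have hΦ : Function.Injective Φ := by
    refine Function.LeftInverse.injective (g := fun z => e₁ k A A (e₁ k A (A ⊗[k] A) z)) fun x => ?_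
    show e₁ k A A (e₁ k A (A ⊗[k] A) (Φ₂ k A (Bialgebra.comulAlgHom k A x))) = x
    have : ∀ z : A ⊗[k] A, e₁ k A (A ⊗[k] A) (Φ₂ k A z) = Bialgebra.comulAlgHom k A (e₁ k A A z) := by
      intro z
      induction z using TensorProduct.induction_on with
      | zero => simp
      | tmul a b => simp [Φ₂]
      | add a b ha hb => simp only [map_add, ha, hb]
    rw [this, e₁_comul, e₁_comul]
  obtain ⟨w, hw⟩ := exists_unit_of_semilinear (tmul_ne_zero' (k := k) hc (tmul_ne_zero' (k := k) hc hc))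
    (box_inv (k := k) hIJ (box_inv (k := k) hIJ hIJ)) Φ hΦ
    (fun a : I => G₁ δ (δ a)) (fun a : I => G₂ δ (δ a))
    (fun x a => by
      show G₁ δ (δ (x * a)) = Φ₂ k A (Bialgebra.comulAlgHom k A x) * G₁ δ (δ a)
      rw [h.semi x a a.2, h.G₁_mul _ (h.mem a.2), Φ₁_comul])
    (fun x a => by
      show G₂ δ (δ (x * a)) = Φ₂ k A (Bialgebra.comulAlgHom k A x) * G₂ δ (δ a)
      rw [h.semi x a a.2, h.G₂_mul _ (h.mem a.2)])
    ((span_image_eq_range (fun a => G₁ δ (δ a))).trans (h.span_D _ _ h.G₁_mul h.base₁))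
    ((span_image_eq_range (fun a => G₂ δ (δ a))).trans (h.span_D _ _ h.G₂_mul h.base₂))
  let E₁ := e₁ k A (A ⊗[k] A)
  let E₂ : A ⊗[k] (A ⊗[k] A) →ₐ[k] A ⊗[k] A := Algebra.TensorProduct.map (AlgHom.id k A) (e₁ k A A)
  have a11 : ∀ a b : A, E₁ (G₁ δ (a ⊗ₜ b)) = e₁ k A A (δ a) ⊗ₜ b := by
    intro a b
    rw [G₁_tmul]
    induction δ a using TensorProduct.induction_on with
    | zero => simp
    | tmul x y => simp [E₁, TensorProduct.smul_tmul']
    | add x y hx hy => simp only [TensorProduct.add_tmul, map_add, hx, hy]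
  have a21 : ∀ a b : A, E₂ (G₁ δ (a ⊗ₜ b)) = e₂ k A (δ a) ⊗ₜ b := by
    intro a b
    rw [G₁_tmul]
    induction δ a using TensorProduct.induction_on with
    | zero => simp
    | tmul x y => simp [E₂, TensorProduct.tmul_smul, TensorProduct.smul_tmul']
    | add x y hx hy => simp only [TensorProduct.add_tmul, map_add, hx, hy]
  have p11 : ∀ z, E₁ (G₁ δ z) = TensorProduct.map ((e₁ k A A).toLinearMap ∘ₗ δ) LinearMap.id z := by
    intro z
    induction z using TensorProduct.induction_on with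
    | zero => simp
    | tmul a b => rw [a11]; rfl
    | add x y hx hy => simp only [map_add, hx, hy]
  have p12 : ∀ z, E₁ (G₂ δ z) = δ (e₁ k A A z) := by
    intro z
    induction z using TensorProduct.induction_on with
    | zero => simp
    | tmul a b => simp [E₁, G₂_tmul]
    | add x y hx hy => simp only [map_add, hx, hy]
  have p21 : ∀ z, E₂ (G₁ δ z) = TensorProduct.map ((e₂ k A).toLinearMap ∘ₗ δ) LinearMap.id z := by
    intro z
    induction z using TensorProduct.induction_on with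
    | zero => simp
    | tmul a b => rw [a21]; rfl
    | add x y hx hy => simp only [map_add, hx, hy]
  have p22 : ∀ z, E₂ (G₂ δ z) = TensorProduct.map LinearMap.id ((e₁ k A A).toLinearMap ∘ₗ δ) z := by
    intro z
    induction z using TensorProduct.induction_on with
    | zero => simp
    | tmul a b => simp [E₂, G₂_tmul]
    | add x y hx hy => simp only [map_add, hx, hy]
  have fix : ∀ (f g : A →ₗ[k] A), (∀ a ∈ I, f a = a) → (∀ a ∈ I, g a = a) →
      ∀ z ∈ box k A I I, TensorProduct.map f g z = z := by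
    intro f g hf hg z hz
    have : ∀ y, TensorProduct.map f g (y * z) = y * z := by
      refine box_induction (Q := fun z => ∀ y, TensorProduct.map f g (y * z) = y * z) (by simp) ?_ ?_ ?_ hz
      · intro z z' h1 h2 y; simp only [mul_add, map_add, h1 y, h2 y]
      · intro r z h1 y; rw [← mul_assoc]; exact h1 _
      · intro a ha b hb y
        induction y using TensorProduct.induction_on with
        | zero => simp
        | tmul x x' =>
          rw [Algebra.TensorProduct.tmul_mul_tmul, TensorProduct.map_tmul, hf _ (I.mul_mem_left x ha),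
            hg _ (I.mul_mem_left x' hb)]
        | add y y' hy hy' => simp only [add_mul, map_add, hy, hy']
    simpa using this 1
  obtain ⟨a₀, ha₀, hne⟩ : ∃ a ∈ I, a ≠ 0 := by
    refine Submodule.exists_mem_ne_zero_of_ne_bot fun hI => ?_
    rw [hI, Ideal.bot_mul] at hIJ
    exact hc (Ideal.span_singleton_eq_bot.1 hIJ.symm)
  have hδ0 : δ a₀ ≠ 0 := fun h0 => hne (by rw [← n₁ a₀ ha₀, h0, map_zero])
  haveI : Algebra.FiniteType k (A ⊗[k] A) :=
    Algebra.FiniteType.trans (S := A) ‹_› (Algebra.FiniteType.baseChange A)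
  obtain ⟨p, q, hpq⟩ := UnitRigidLib.exists_tmul_of_isUnit w
  have hE₁ : E₁ (w : A ⊗[k] (A ⊗[k] A)) = 1 := by
    have h2 := congrArg E₁ (hw ⟨a₀, ha₀⟩)
    rw [map_mul, p11, p12, fix _ _ n₁ (fun a _ => rfl) _ (h.mem ha₀), n₁ a₀ ha₀] at h2
    exact (mul_eq_right₀ hδ0).1 h2.symm
  have hE₂ : E₂ (w : A ⊗[k] (A ⊗[k] A)) = 1 := by
    have h2 := congrArg E₂ (hw ⟨a₀, ha₀⟩)
    rw [map_mul, p21, p22,
      fix ((e₂ k A).toLinearMap ∘ₗ δ) LinearMap.id n₂ (fun a _ => rfl) _ (h.mem ha₀),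
      fix LinearMap.id ((e₁ k A A).toLinearMap ∘ₗ δ) (fun a _ => rfl) n₁ _ (h.mem ha₀)] at h2
    exact (mul_eq_right₀ hδ0).1 h2.symm
  have hw1 : (w : A ⊗[k] (A ⊗[k] A)) = 1 := by
    rw [hpq] at hE₁ hE₂ ⊢
    simp only [E₁, e₁_tmul] at hE₁
    have hp0 : Bialgebra.counitAlgHom k A p ≠ 0 := fun h0 => by simp [h0] at hE₁
    have hq : q = (Bialgebra.counitAlgHom k A p)⁻¹ • (1 : A ⊗[k] A) := by
      rw [← hE₁, inv_smul_smul₀ hp0]
    rw [hq] at hE₂ ⊢
    simp only [E₂, Algebra.TensorProduct.map_tmul, AlgHom.id_apply, map_smul, map_one,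
      TensorProduct.tmul_smul] at hE₂
    rw [TensorProduct.tmul_smul]
    have h3 : (Bialgebra.counitAlgHom k A p)⁻¹ • p = 1 := by
      have h4 := congrArg (e₂ k A) hE₂
      simpa [map_smul] using h4
    rw [TensorProduct.smul_tmul', h3]
    rfl
  intro a ha
  rw [hw ⟨a, ha⟩, hw1, one_mul]

end Groth.Agent.FinPicGrp
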