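import Mathlib.LinearAlgebra.TensorProduct.Basis
import Mathlib.LinearAlgebra.Matrix.Determinant.Basic
import Mathlib.LinearAlgebra.Matrix.ToLinearEquiv
import Mathlib.LinearAlgebra.FiniteDimensional.Basic
import Groth.Agent.UnitRigidLib.Algebra
import Groth.Agent.UnitRigidLib.Tensor
import Groth.Agent.FinPicGrpLib.Core

/-!
# A primitive invertible ideal of an affine Hopf domain is torsion

The matrix of a finite dimensional comodule of sections has as determinant a generator of a power
of the ideal.
-/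

set_option autoImplicit false
set_option linter.style.haveILetI false
set_option maxHeartbeats 1000000

noncomputable section

universe u

open TensorProduct
open scoped TensorProduct

namespace Groth.Agent.FinPicGrp

variable {k : Type u} [Field k] {A : Type u} [CommRing A] [HopfAlgebra k A]

variable (k A) in
/-- Contract the first factor. -/
def ev {B : Type u} [AddCommGroup B] [Module k B] (f : A →ₗ[k] k) : A ⊗[k] B →ₗ[k] B :=
  (TensorProduct.lid k B).toLinearMap ∘ₗ TensorProduct.map f LinearMap.id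

variable (k A) in
/-- Contract the second factor. -/
def ev' (f : A →ₗ[k] k) : A ⊗[k] A →ₗ[k] A :=
  (TensorProduct.rid k A).toLinearMap ∘ₗ TensorProduct.map LinearMap.id f

@[simp] theorem ev_tmul {B : Type u} [AddCommGroup B] [Module k B] (f : A →ₗ[k] k) (a : A) (b : B) :
    ev k A f (a ⊗ₜ b) = f a • b := by simp [ev]

@[simp] theorem ev'_tmul (f : A →ₗ[k] k) (a b : A) : ev' k A f (a ⊗ₜ b) = f b • a := by simp [ev']

variable {I : Ideal A} {δ : A →ₗ[k] A ⊗[k] A}

theorem ev_mem {z : A ⊗[k] A} (hz : z ∈ box k A I I) : ∀ f, ev k A f z ∈ I := by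
  refine box_induction (Q := fun z => ∀ f, ev k A f z ∈ I) (by simp) ?_ ?_ ?_ hz
  · intro z z' h h' f; rw [map_add]; exact add_mem (h f) (h' f)
  · intro y z h f
    induction y using TensorProduct.induction_on with
    | zero => simp
    | tmul x x' =>
      have e : ∀ w : A ⊗[k] A, ev k A f ((x ⊗ₜ x') * w) = x' * ev k A (f ∘ₗ LinearMap.mulLeft k x) w := by
        intro w
        induction w using TensorProduct.induction_on with
        | zero => simp
        | tmul a b => simp
        | add w w' hw hw' => simp only [mul_add, map_add, hw, hw']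
      rw [e]
      exact I.mul_mem_left _ (h _)
    | add y y' hy hy' => rw [add_mul, map_add]; exact add_mem hy hy'
  · intro a _ b hb f
    rw [ev_tmul, Algebra.smul_def]
    exact I.mul_mem_left _ hb

theorem ev'_mem {z : A ⊗[k] A} (hz : z ∈ box k A I I) : ∀ f, ev' k A f z ∈ I := by
  refine box_induction (Q := fun z => ∀ f, ev' k A f z ∈ I) (by simp) ?_ ?_ ?_ hz
  · intro z z' h h' f; rw [map_add]; exact add_mem (h f) (h' f)
  · intro y z h f
    induction y using TensorProduct.induction_on with
    | zero => simp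
    | tmul x x' =>
      have e : ∀ w : A ⊗[k] A, ev' k A f ((x ⊗ₜ x') * w) = x * ev' k A (f ∘ₗ LinearMap.mulLeft k x') w := by
        intro w
        induction w using TensorProduct.induction_on with
        | zero => simp
        | tmul a b => simp
        | add w w' hw hw' => simp only [mul_add, map_add, hw, hw']
      rw [e]
      exact I.mul_mem_left _ (h _)
    | add y y' hy hy' => rw [add_mul, map_add]; exact add_mem hy hy'
  · intro a ha b _ f
    rw [ev'_tmul, Algebra.smul_def]
    exact I.mul_mem_left _ ha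

omit [HopfAlgebra k A] in
/-- A tensor all whose contractions lie in `W` comes from `A ⊗ W`. -/
theorem mem_range_of_ev [Algebra k A] {W : Submodule k A} {z : A ⊗[k] A}
    (h : ∀ f : A →ₗ[k] k, (TensorProduct.lid k A) (TensorProduct.map f LinearMap.id z) ∈ W) :
    z ∈ LinearMap.range (W.subtype.lTensor A) := by
  classical
  let b := Module.Basis.ofVectorSpace k A
  have hc : ∀ i (z : A ⊗[k] A), TensorProduct.equivFinsuppOfBasisLeft (N := A) b z i =
      (TensorProduct.lid k A) (TensorProduct.map (b.coord i) LinearMap.id z) := fun i z => by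
    induction z using TensorProduct.induction_on with
    | zero => simp
    | tmul x y => simp
    | add x y hx hy => simp only [map_add, Finsupp.coe_add, Pi.add_apply, hx, hy]
  have hz : z = (TensorProduct.equivFinsuppOfBasisLeft (N := A) b).symm
      (TensorProduct.equivFinsuppOfBasisLeft (N := A) b z) := (LinearEquiv.symm_apply_apply _ _).symm
  rw [hz, TensorProduct.equivFinsuppOfBasisLeft_symm_apply]
  refine Submodule.sum_mem _ fun i _ => ⟨b i ⊗ₜ[k] ⟨_, hc i _ ▸ h (b.coord i)⟩, rfl⟩

theorem Prim.exists_comodule [IsAlgClosed k] [IsDomain A] [Algebra.FiniteType k A] [IsDomain (A ⊗[k] A)]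
    [IsDomain (A ⊗[k] (A ⊗[k] A))] (h : Prim I δ) {J : Ideal A} {c : A} (hc : c ≠ 0)
    (hIJ : I * J = Ideal.span {c}) (n₁ : ∀ a ∈ I, e₁ k A A (δ a) = a) (n₂ : ∀ a ∈ I, e₂ k A (δ a) = a) :
    ∃ (n : ℕ) (v : Fin n → A) (M : Matrix (Fin n) (Fin n) A), n ≠ 0 ∧ LinearIndependent k v ∧
      (∀ j, v j ∈ I) ∧ (∀ i j, M i j ∈ I) ∧ ∀ j, δ (v j) = ∑ i, M i j ⊗ₜ[k] v i := by
  classical
  obtain ⟨a₀, ha₀, hne⟩ : ∃ a ∈ I, a ≠ 0 := by
    refine Submodule.exists_mem_ne_zero_of_ne_bot fun hI => ?_
    rw [hI, Ideal.bot_mul] at hIJ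
    exact hc (Ideal.span_singleton_eq_bot.1 hIJ.symm)
  let V : Submodule k A := LinearMap.range
    ({ toFun := fun f => ev k A f (δ a₀)
       map_add' := fun f g => by simp [ev, TensorProduct.map_add_left]
       map_smul' := fun r f => by simp [ev, TensorProduct.map_smul_left] } : (A →ₗ[k] k) →ₗ[k] A)
  have hV : ∀ f, ev k A f (δ a₀) ∈ V := fun f => ⟨f, rfl⟩
  haveI : FiniteDimensional k V := by
    obtain ⟨S, hS⟩ := TensorProduct.exists_finset (δ a₀)
    haveI : FiniteDimensional k (Submodule.span k ((S.image Prod.snd : Finset A) : Set A)) :=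
      FiniteDimensional.span_finset k _
    refine Submodule.finiteDimensional_of_le
      (S₂ := Submodule.span k ((S.image Prod.snd : Finset A) : Set A)) ?_
    rintro _ ⟨f, rfl⟩
    show ev k A f (δ a₀) ∈ _
    rw [hS, map_sum]
    refine Submodule.sum_mem _ fun p hp => ?_
    rw [ev_tmul]
    exact Submodule.smul_mem _ _ (Submodule.subset_span (Finset.mem_coe.2 (Finset.mem_image_of_mem _ hp)))
  have hVI : ∀ v ∈ V, v ∈ I := by rintro _ ⟨f, rfl⟩; exact ev_mem (h.mem ha₀) f
  have ha₀V : a₀ ∈ V := ⟨(Bialgebra.counitAlgHom k A).toLinearMap, n₁ a₀ ha₀⟩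
  have hco := h.coassoc hc hIJ n₁ n₂ a₀ ha₀
  have hδ₀ : δ a₀ ∈ LinearMap.range (V.subtype.lTensor A) := mem_range_of_ev hV
  have hG₂ : ∀ (f : A →ₗ[k] k) z, ev k A f (G₂ δ z) = δ (ev k A f z) := by
    intro f z
    induction z using TensorProduct.induction_on with
    | zero => simp
    | tmul a b => simp [G₂_tmul]
    | add x y hx hy => simp only [map_add, hx, hy]
  have hG₁ : ∀ (f : A →ₗ[k] k) (w : A ⊗[k] V),
      ev k A f (G₁ δ (V.subtype.lTensor A w)) ∈ LinearMap.range (V.subtype.lTensor A) := by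
    intro f w
    induction w using TensorProduct.induction_on with
    | zero => simp
    | tmul a v =>
      rw [LinearMap.lTensor_tmul, G₁_tmul]
      induction δ a using TensorProduct.induction_on with
      | zero => simp
      | tmul x y =>
        rw [assocA_tmul, ev_tmul]
        exact Submodule.smul_mem _ _ ⟨y ⊗ₜ v, rfl⟩
      | add x y hx hy => rw [TensorProduct.add_tmul, map_add, map_add]; exact add_mem hx hy
    | add x y hx hy => rw [map_add, map_add, map_add]; exact add_mem hx hy
  have hδV : ∀ v ∈ V, δ v ∈ LinearMap.range (V.subtype.lTensor A) := by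
    rintro _ ⟨f, rfl⟩
    show δ (ev k A f (δ a₀)) ∈ _
    rw [← hG₂, ← hco]
    obtain ⟨w, hw⟩ := hδ₀
    rw [← hw]
    exact hG₁ f w
  let b := Module.finBasis k V
  choose w hw using fun j => hδV (b j) (b j).2
  have hsum : ∀ j, δ (b j : A) =
      ∑ i, TensorProduct.equivFinsuppOfBasisRight (M := A) b (w j) i ⊗ₜ[k] (b i : A) := fun j => by
    conv_lhs => rw [← hw j, ← (TensorProduct.equivFinsuppOfBasisRight (M := A) b).symm_apply_apply (w j),
      TensorProduct.equivFinsuppOfBasisRight_symm_apply]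
    rw [map_finsuppSum, Finsupp.sum_fintype _ _ (by simp)]
    rfl
  refine ⟨Module.finrank k V, fun j => (b j : A),
    fun i j => TensorProduct.equivFinsuppOfBasisRight (M := A) b (w j) i, ?_, ?_, fun j => hVI _ (b j).2,
    fun i j => ?_, hsum⟩
  · haveI : Nontrivial V := ⟨⟨⟨a₀, ha₀V⟩, 0, fun e => hne (congrArg Subtype.val e)⟩⟩
    exact Module.finrank_pos.ne'
  · exact b.linearIndependent.map' V.subtype V.ker_subtype
  · obtain ⟨φ, hφ⟩ := LinearMap.exists_extend (b.coord i)
    have : ev' k A φ (δ (b j : A)) = TensorProduct.equivFinsuppOfBasisRight (M := A) b (w j) i := by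
      rw [hsum, map_sum]
      have e : ∀ x : V, φ x = b.coord i x := fun x => LinearMap.congr_fun hφ x
      simp only [ev'_tmul, e, Module.Basis.coord_apply, Module.Basis.repr_self, Finsupp.single_apply,
        ite_smul, one_smul, zero_smul, Finset.sum_ite_eq', Finset.mem_univ, if_true]
    show TensorProduct.equivFinsuppOfBasisRight (M := A) b (w j) i ∈ I
    rw [← this]
    exact ev'_mem (h.mem (hVI _ (b j).2)) φ

section Nonvanishing

variable [IsDomain A] (g : A →ₐ[k] k)

theorem ev_point_comul_injective :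
    Function.Injective fun x => ev k A g.toLinearMap (Bialgebra.comulAlgHom k A x) := by
  let g' : A →ₗ[k] k := g.toLinearMap ∘ₗ HopfAlgebraStruct.antipode k
  refine Function.LeftInverse.injective (g := fun x => ev k A g' (Bialgebra.comulAlgHom k A x)) fun x => ?_
  let M : A ⊗[k] (A ⊗[k] A) →ₗ[k] A :=
    (TensorProduct.lid k A).toLinearMap ∘ₗ TensorProduct.map g.toLinearMap (ev k A g')
  have h₂ : ∀ y, M (Φ₂ k A y) = ev k A g' (Bialgebra.comulAlgHom k A (ev k A g.toLinearMap y)) := by
    intro y
    induction y using TensorProduct.induction_on with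
    | zero => simp
    | tmul a b => simp [M, Φ₂]
    | add a b ha hb => simp only [map_add, ha, hb]
  have h₁ : ∀ y, M (Φ₁ k A y) = e₁ k A A y := by
    intro y
    induction y using TensorProduct.induction_on with
    | zero => simp
    | tmul a b =>
      have e : ∀ z : A ⊗[k] A, M (assocA k A (z ⊗ₜ b)) =
          g (LinearMap.mul' k A ((HopfAlgebraStruct.antipode k).lTensor A z)) • b := by
        intro z
        induction z using TensorProduct.induction_on with
        | zero => simp
        | tmul p q => simp [M, g', smul_smul, mul_comm]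
        | add p q hp hq => simp only [TensorProduct.add_tmul, map_add, add_smul, hp, hq]
      show M (assocA k A (Bialgebra.comulAlgHom k A a ⊗ₜ b)) = _
      rw [e, Bialgebra.comulAlgHom_apply, HopfAlgebra.mul_antipode_lTensor_comul_apply, AlgHom.commutes,
        e₁_tmul]
      rfl
    | add a b ha hb => simp only [map_add, ha, hb]
  show ev k A g' (Bialgebra.comulAlgHom k A (ev k A g.toLinearMap (Bialgebra.comulAlgHom k A x))) = x
  rw [← h₂, ← Φ₁_comul, h₁, e₁_comul]

theorem ev_point_mul (y z : A ⊗[k] A) :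
    ev k A g.toLinearMap (y * z) = ev k A g.toLinearMap y * ev k A g.toLinearMap z := by
  induction y using TensorProduct.induction_on with
  | zero => simp
  | tmul a b =>
    induction z using TensorProduct.induction_on with
    | zero => simp
    | tmul c d => simp [smul_mul_smul_comm, smul_smul, mul_comm]
    | add p q hp hq => simp only [mul_add, map_add, hp, hq]
  | add p q hp hq => simp only [add_mul, map_add, hp, hq]

/-- A semilinear functional at a point, nonzero on `I`, gives an injective translation on `I`. -/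
theorem Prim.eq_zero_of_ev_eq_zero (h : Prim I δ) (πe : A →ₗ[k] k)
    (hπ : ∀ x, ∀ a ∈ I, πe (x * a) = g x * πe a) {t : A} (ht : t ∈ I) (hπt : πe t ≠ 0)
    {v : A} (hv : v ∈ I) (h0 : ev k A πe (δ v) = 0) : v = 0 := by
  by_contra hne
  have hsl : ∀ z ∈ box k A I I, ∀ y, ev k A πe (y * z) = ev k A g.toLinearMap y * ev k A πe z := by
    intro z hz
    refine box_induction (Q := fun z => ∀ y, ev k A πe (y * z) = ev k A g.toLinearMap y * ev k A πe z)
      (by simp) ?_ ?_ ?_ hz
    · intro z z' h h' y; simp only [mul_add, map_add, h y, h' y]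
    · intro r z h y; rw [← mul_assoc, h, h r, ev_point_mul, mul_assoc]
    · intro a ha b _ y
      induction y using TensorProduct.induction_on with
      | zero => simp
      | tmul x x' =>
        rw [Algebra.TensorProduct.tmul_mul_tmul, ev_tmul, ev_tmul, ev_tmul, hπ x a ha, smul_mul_smul_comm,
          AlgHom.toLinearMap_apply]
      | add y y' hy hy' => simp only [add_mul, map_add, hy, hy']
  have hS : ∀ x, ∀ a ∈ I, ev k A πe (δ (x * a)) =
      ev k A g.toLinearMap (Bialgebra.comulAlgHom k A x) * ev k A πe (δ a) := fun x a ha => by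
    rw [h.semi x a ha, hsl _ (h.mem ha)]
  have hτ : ev k A g.toLinearMap (Bialgebra.comulAlgHom k A v) ≠ 0 := fun e =>
    hne (ev_point_comul_injective g (show _ = ev k A g.toLinearMap (Bialgebra.comulAlgHom k A 0) by
      rw [map_zero, map_zero]; exact e))
  have hall : ∀ b ∈ I, ev k A πe (δ b) = 0 := fun b hb => by
    have h2 := hS v b hb
    rw [mul_comm v b, hS b v hv, h0, mul_zero] at h2
    exact (mul_eq_zero.1 h2.symm).resolve_left hτ
  have hbox : ∀ z ∈ box k A I I, z ∈ box k A I I ∧ ev k A πe z = 0 := by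
    intro z hz
    rw [← h.span] at hz
    induction hz using Submodule.span_induction with
    | mem z hz => obtain ⟨a, ha, rfl⟩ := hz; exact ⟨h.mem ha, hall a ha⟩
    | zero => exact ⟨zero_mem _, map_zero _⟩
    | add z z' _ _ h1 h2 => exact ⟨add_mem h1.1 h2.1, by rw [map_add, h1.2, h2.2, add_zero]⟩
    | smul y z _ h1 =>
      exact ⟨Ideal.mul_mem_left _ y h1.1, by rw [smul_eq_mul, hsl _ h1.1, h1.2, mul_zero]⟩
  have h2 := (hbox (t ⊗ₜ t) (box_eq_span' (k := k) I I ▸ Ideal.subset_span ⟨t, ht, t, ht, rfl⟩)).2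
  rw [ev_tmul] at h2
  rcases smul_eq_zero.1 h2 with e | e
  · exact hπt e
  · exact hπt (by rw [e, map_zero])

end Nonvanishing

variable [IsAlgClosed k] [IsDomain A] [Algebra.FiniteType k A] [IsDomain (A ⊗[k] A)]
  [IsDomain (A ⊗[k] (A ⊗[k] A))]

/-- A primitive invertible ideal is torsion. -/
theorem Prim.exists_pow_principal (h : Prim I δ) {J : Ideal A} {c : A} (hc : c ≠ 0)
    (hIJ : I * J = Ideal.span {c}) (hε : ∃ a ∈ I, Bialgebra.counitAlgHom k A a ≠ 0) :
    ∃ n : ℕ, n ≠ 0 ∧ ∃ d, I ^ n = Ideal.span {d} := by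
  classical
  obtain ⟨δ, h, n₁, n₂⟩ := h.exists_normalised hc hIJ hε
  obtain ⟨n, v, M, hn, hli, hvI, hMI, hsum⟩ := h.exists_comodule hc hIJ n₁ n₂
  have hd : M.det ∈ I ^ n := by
    rw [Matrix.det_apply]
    refine Ideal.sum_mem _ fun σ _ => ?_
    have hp : ∏ i, M (σ i) i ∈ I ^ n := by
      have h2 := Ideal.prod_mem_prod (ι := Fin n) (s := Finset.univ) (I := fun _ => I)
        (x := fun i => M (σ i) i) fun i _ => hMI _ _
      simpa using h2
    rw [Units.smul_def, zsmul_eq_mul]
    exact Ideal.mul_mem_left _ _ hp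
  refine ⟨n, hn, M.det, le_antisymm ?_ ((Ideal.span_singleton_le_iff_mem _).2 hd)⟩
  let C : Ideal A :=
    { carrier := {r | ∀ a ∈ I ^ n, r * a ∈ Ideal.span {M.det}}
      add_mem' := fun {r s} hr hs a ha => by rw [add_mul]; exact add_mem (hr a ha) (hs a ha)
      zero_mem' := fun a _ => by rw [zero_mul]; exact zero_mem _
      smul_mem' := fun x r hr a ha => by
        show x * r * a ∈ _
        rw [mul_assoc]; exact Ideal.mul_mem_left _ _ (hr a ha) }
  suffices hC : C = ⊤ by
    intro a ha
    have : (1 : A) ∈ C := hC ▸ Submodule.mem_top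
    simpa using this a ha
  by_contra hC
  obtain ⟨m, hm, hCm⟩ := Ideal.exists_le_maximal C hC
  obtain ⟨g, hg⟩ := UnitRigidLib.exists_point (K := k) m
  have hgm : ∀ x : A, x ∈ m ↔ g x = 0 := fun x => by rw [← hg]; exact RingHom.mem_ker
  obtain ⟨t, ht, j, hj, x, hx, hgx⟩ : ∃ t ∈ I, ∃ j ∈ J, ∃ x, t * j = c * x ∧ g x ≠ 0 := by
    by_contra! hall
    have hmem : c ∈ I * J := hIJ ▸ Ideal.mem_span_singleton_self c
    have key : ∀ z ∈ I * J, ∃ x, z = c * x ∧ g x = 0 := by
      intro z hz
      refine Submodule.mul_induction_on hz (fun t ht j hj => ?_) fun z z' => ?_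
      · obtain ⟨x, hx⟩ := Ideal.mem_span_singleton'.1 (hIJ ▸ Ideal.mul_mem_mul ht hj)
        rw [mul_comm x] at hx
        exact ⟨x, hx.symm, hall t ht j hj x hx.symm⟩
      · rintro ⟨x, rfl, hx⟩ ⟨y, rfl, hy⟩
        exact ⟨x + y, by ring, by rw [map_add, hx, hy, add_zero]⟩
    obtain ⟨x, hx, hgx⟩ := key c hmem
    rw [eq_comm, mul_eq_left₀ hc] at hx
    rw [hx, map_one] at hgx
    exact one_ne_zero hgx
  choose q hq using fun a : I => Ideal.mem_span_singleton'.1 (hIJ ▸ Ideal.mul_mem_mul a.2 hj)
  have hqm : ∀ (y : A) (a : I), q (y • a) = y * q a := fun y a => by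
    refine mul_right_cancel₀ hc ?_
    rw [hq, mul_assoc, hq]
    exact mul_assoc _ _ _
  have hqa : ∀ a b : I, q (a + b) = q a + q b := fun a b => by
    refine mul_right_cancel₀ hc ?_
    rw [hq, add_mul, hq, hq]
    exact add_mul _ _ _
  have hqt : ∀ a : I, x * a = t * q a := fun a => by
    refine mul_left_cancel₀ hc ?_
    linear_combination (t : A) * (-1) * hq a - (a : A) * hx
  let π : (I.restrictScalars k) →ₗ[k] k :=
    { toFun := fun a => g (q ⟨a.1, a.2⟩)
      map_add' := fun a b => by
        rw [← map_add, ← hqa]; rfl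
      map_smul' := fun r a => by
        show g (q ⟨(r • a).1, (r • a).2⟩) = r * g (q ⟨a.1, a.2⟩)
        have e : q ⟨(r • a).1, (r • a).2⟩ = algebraMap k A r * q ⟨a.1, a.2⟩ :=
          (congrArg q (Subtype.ext (Algebra.smul_def r a.1))).trans (hqm _ _)
        rw [e, map_mul, AlgHom.commutes]
        rfl }
  obtain ⟨πe, hπe⟩ := LinearMap.exists_extend π
  have hπI : ∀ a (ha : a ∈ I), πe a = g (q ⟨a, ha⟩) := fun a ha =>
    LinearMap.congr_fun hπe ⟨a, ha⟩
  have hπ : ∀ y, ∀ a ∈ I, πe (y * a) = g y * πe a := fun y a ha => by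
    rw [hπI _ (I.mul_mem_left y ha), hπI _ ha, ← map_mul, ← hqm]
    rfl
  have hπt : πe t ≠ 0 := by
    rw [hπI t ht, show q ⟨t, ht⟩ = x from mul_right_cancel₀ hc (by rw [hq, hx, mul_comm])]
    exact hgx
  let Q : Matrix (Fin n) (Fin n) A := fun i l => q ⟨M i l, hMI i l⟩
  have hdet : x ^ n * M.det = t ^ n * Q.det := by
    have e : x • M = t • Q := by
      ext i l
      exact hqt ⟨M i l, hMI i l⟩
    have h2 := congrArg Matrix.det e
    simpa [Matrix.det_smul] using h2
  have hQ : g Q.det ≠ 0 := by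
    rw [AlgHom.map_det]
    intro h0
    obtain ⟨α, hα, hαQ⟩ := Matrix.exists_mulVec_eq_zero_iff.2 h0
    let w := ∑ l, α l • v l
    have hw : ev k A πe (δ w) = 0 := by
      have hcol : ∀ i, ∑ l, α l * g (Q i l) = 0 := fun i => by
        have h3 := congrFun hαQ i
        simpa [Matrix.mulVec, dotProduct, mul_comm] using h3
      calc ev k A πe (δ w) = ∑ l, ∑ i, (α l * g (Q i l)) • v i := by
            simp only [w, map_sum, map_smul, hsum, ev_tmul, Finset.smul_sum, smul_smul, Q,
              ← hπI _ (hMI _ _)]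
        _ = ∑ i, (∑ l, α l * g (Q i l)) • v i := by
            rw [Finset.sum_comm]; simp only [Finset.sum_smul]
        _ = 0 := by simp [hcol]
    have hwI : w ∈ I := Ideal.sum_mem _ fun l _ => by
      rw [Algebra.smul_def]; exact I.mul_mem_left _ (hvI l)
    have hw0 := h.eq_zero_of_ev_eq_zero g πe hπ ht hπt hwI hw
    exact hα (funext (Fintype.linearIndependent_iff.1 hli α hw0))
  have hr : Q.det * x ^ n ∈ C := by
    intro a ha
    have hxa : x ^ n * a ∈ Ideal.span {t ^ n} := by
      have h1 : Ideal.span {x} * I ≤ Ideal.span {t} := Ideal.span_singleton_mul_le_iff.2 fun b hb =>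
        Ideal.mem_span_singleton'.2 ⟨q ⟨b, hb⟩, by rw [hqt ⟨b, hb⟩, mul_comm]⟩
      have h2 := Ideal.pow_right_mono h1 n
      rw [mul_pow, Ideal.span_singleton_pow, Ideal.span_singleton_pow] at h2
      exact h2 (Ideal.mul_mem_mul (Ideal.mem_span_singleton_self _) ha)
    obtain ⟨b, hb⟩ := Ideal.mem_span_singleton'.1 hxa
    refine Ideal.mem_span_singleton'.2 ⟨x ^ n * b, ?_⟩
    linear_combination b * hdet + Q.det * hb
  have h4 := (hgm _).1 (hCm hr)
  rw [map_mul, map_pow] at h4
  exact mul_ne_zero hQ (pow_ne_zero n hgx) h4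

end Groth.Agent.FinPicGrp
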