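import Groth.Agent.FinPicGrpLib.Sections
import Groth.Agent.FinPicGrpLib.Det
import Groth.Agent.KFlatLib.AffinePull

/-!
# A line bundle on an affine group gives a primitive ideal
-/

set_option autoImplicit false
set_option linter.style.haveILetI false
set_option backward.isDefEq.respectTransparency false
set_option maxHeartbeats 1000000

noncomputable section

universe u

open CategoryTheory AlgebraicGeometry TopologicalSpace Opposite
open AmpleLib (res GenAt GenOn shT)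
open CubeConsLib (clA pullA PicA)
open scoped TensorProduct

namespace Groth.Agent.FinPicGrp

section Pull

variable {Y X : Scheme.{u}} (g : Y ⟶ X)

/-- Pullback of a global section. -/
def puT {M : X.Modules} (s : Γ(M, ⊤)) : Γ(KFlatLib.pb g M, ⊤) := KFlatLib.puSec g s

theorem puT_smul {M : X.Modules} (r : Γ(X, ⊤)) (s : Γ(M, ⊤)) : puT g (r • s) = g.appTop r • puT g s :=
  KFlatLib.puSec_smul g r s

theorem puT_genAt {M : X.Modules} {s : Γ(M, ⊤)} {y : Y}
    (h : GenAt M s (show g y ∈ (⊤ : X.Opens) from trivial)) :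
    GenAt (KFlatLib.pb g M) (puT g s) (show y ∈ (⊤ : Y.Opens) from trivial) :=
  TwistLib.GenAt.puSec g h

end Pull

section Ring

variable (A : Type u) [CommRing A]

/-- Global functions on `Spec A`. -/
def eSpec : Γ(Spec (CommRingCat.of A), ⊤) ≃+* A :=
  (Scheme.ΓSpecIso (CommRingCat.of A)).commRingCatIsoToRingEquiv

variable {A}

theorem eSpec_appTop {B : Type u} [CommRing B] (f : A →+* B) (r : Γ(Spec (CommRingCat.of A), ⊤)) :
    eSpec B ((Spec.map (CommRingCat.ofHom f)).appTop r) = f (eSpec A r) :=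
  congr($(Scheme.ΓSpecIso_naturality (CommRingCat.ofHom f)) r)

end Ring

variable {k : Type u} [Field k] {A : Type u} [CommRing A] [HopfAlgebra k A]

variable (k A) in
/-- `Spec` of the three maps `A → A ⊗ A`. -/
abbrev specHom (f : A →ₐ[k] A ⊗[k] A) :
    Spec (CommRingCat.of (A ⊗[k] A)) ⟶ Spec (CommRingCat.of A) :=
  Spec.map (CommRingCat.ofHom f.toRingHom)

/-- A line bundle whose class is primitive gives a primitive invertible ideal not through the identity. -/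
theorem exists_prim [IsDomain A] [IsDomain (A ⊗[k] A)]
    {L : (Spec (CommRingCat.of A)).Modules} (hL : PicF.IsInvertible L)
    (hdec : pullA (specHom k A (Bialgebra.comulAlgHom k A)) (clA hL) =
      pullA (specHom k A Algebra.TensorProduct.includeLeft) (clA hL) +
      pullA (specHom k A Algebra.TensorProduct.includeRight) (clA hL)) :
    ∃ (I₀ : Ideal Γ(Spec (CommRingCat.of A), ⊤)) (J : Ideal A) (c : A) (δ : A →ₗ[k] A ⊗[k] A),
      Rep (clA hL) I₀ ∧ c ≠ 0 ∧ (I₀.map (eSpec A).toRingHom) * J = Ideal.span {c} ∧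
      (∃ a ∈ I₀.map (eSpec A).toRingHom, Bialgebra.counitAlgHom k A a ≠ 0) ∧
      Prim (I₀.map (eSpec A).toRingHom) δ := by
  classical
  let eA := eSpec A
  let eP := eSpec (A ⊗[k] A)
  -- the functional
  let pε : PrimeSpectrum Γ(Spec (CommRingCat.of A), ⊤) :=
    ⟨RingHom.ker ((Bialgebra.counitAlgHom k A).toRingHom.comp eA.toRingHom), RingHom.ker_isPrime _⟩
  obtain ⟨s₀, g, hg, hgle⟩ := exists_gen_basicOpen hL (ptOf _ pε)
  have hgε : Bialgebra.counitAlgHom k A (eA g) ≠ 0 := (mem_basicOpen_ptOf pε g).1 hg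
  have hg0 : g ≠ 0 := fun h => hgε (by rw [h, map_zero, map_zero])
  obtain ⟨χ, hχ, N, hN⟩ := exists_emb_of_genSet hL s₀ hg0 hgle
  have hs₀ : χ s₀ ≠ 0 := hN ▸ pow_ne_zero N hg0
  obtain ⟨J₀, hJ₀⟩ := exists_inverse hL hχ s₀
  set I : Ideal A := Ideal.map eA.toRingHom (LinearMap.range χ)
  have hmemI : ∀ a, a ∈ I ↔ ∃ s, eA (χ s) = a := fun a => by
    show a ∈ Ideal.map eA.toRingHom _ ↔ _
    rw [Ideal.mem_map_iff_of_surjective eA.toRingHom eA.surjective]
    exact ⟨fun ⟨_, ⟨s, hs⟩, h⟩ => ⟨s, hs.symm ▸ h⟩, fun ⟨s, hs⟩ => ⟨_, ⟨s, rfl⟩, hs⟩⟩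
  -- the target bundle
  let μ := specHom k A (Bialgebra.comulAlgHom k A)
  let p₁ := specHom k A Algebra.TensorProduct.includeLeft
  let p₂ := specHom k A Algebra.TensorProduct.includeRight
  have h₁ := AmpleDevLib.isInvertible_pb p₁ hL
  have h₂ := AmpleDevLib.isInvertible_pb p₂ hL
  have hμ := AmpleDevLib.isInvertible_pb μ hL
  have hT := HilbPolyLib.isInvertible_tensor h₁ h₂
  obtain ⟨φ⟩ : Nonempty (KFlatLib.pb μ L ≅ CohB1.tensorMod (KFlatLib.pb p₁ L) (KFlatLib.pb p₂ L)) := by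
    refine (CubeConsLib.clA_eq_iff hμ hT).1 ?_
    rw [CubeConsLib.clA_tensor h₁ h₂, ← CubeConsLib.pullA_clA p₁ hL, ← CubeConsLib.pullA_clA p₂ hL,
      ← CubeConsLib.pullA_clA μ hL]
    exact hdec
  have hl : ∀ a : A, Algebra.TensorProduct.includeLeft (R := k) (S := k) (B := A) a ≠ 0 ↔ a ≠ 0 := fun a =>
    map_ne_zero_iff _ (Function.LeftInverse.injective (g := e₂ k A) fun x => by simp)
  have hr : ∀ a : A, Algebra.TensorProduct.includeRight (R := k) (A := A) a ≠ 0 ↔ a ≠ 0 := fun a =>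
    map_ne_zero_iff _ (Function.LeftInverse.injective (g := e₁ k A A) fun x => by simp)
  obtain ⟨Λ, -, -, -, hΛ⟩ := exists_emb hT
    (fun p : Γ(L, ⊤) × Γ(L, ⊤) => shT (puT p₁ p.1) (puT p₂ p.2))
    (fun y => by
      obtain ⟨σ, hσ⟩ := exists_gen hL (p₁ y)
      obtain ⟨τ, hτ⟩ := exists_gen hL (p₂ y)
      exact ⟨(σ, τ), (puT_genAt p₁ hσ).tensor (puT_genAt p₂ hτ)⟩)
    (shT (puT p₁ s₀) (puT p₂ s₀)) (p₁.appTop (χ s₀) * p₂.appTop (χ s₀))
    (mul_ne_zero
      (fun h => (hl (eA (χ s₀))).2 ((map_ne_zero_iff _ eA.injective).2 hs₀)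
        ((eSpec_appTop _ _).symm.trans ((congrArg eP h).trans (map_zero eP))))
      (fun h => (hr (eA (χ s₀))).2 ((map_ne_zero_iff _ eA.injective).2 hs₀)
        ((eSpec_appTop _ _).symm.trans ((congrArg eP h).trans (map_zero eP)))))
    (fun p => p₁.appTop (χ p.1) * p₂.appTop (χ p.2)) fun p => by
      rw [← AmpleLib.shT_smul, ← AmpleLib.shT_smul, ← puT_smul, ← puT_smul, ← puT_smul, ← puT_smul,
        emb_comm hχ s₀ p.1, emb_comm hχ s₀ p.2]
  let D : Γ(L, ⊤) → A ⊗[k] A := fun s => eP (Λ (φ.hom.app ⊤ (puT μ s)))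
  have hDadd : ∀ s t, D (s + t) = D s + D t := fun s t => by
    have e : puT μ (s + t) = puT μ s + puT μ t :=
      map_add (((Scheme.Modules.pullbackPushforwardAdjunction μ).unit.app L).app ⊤).hom s t
    simp only [D, e, map_add]
  have hDsmul : ∀ r s, D (r • s) = Bialgebra.comulAlgHom k A (eA r) * D s := fun r s => by
    simp only [D]
    rw [puT_smul, QCohLib.app_smul, map_smul, smul_eq_mul, map_mul, eSpec_appTop]
    rfl
  have hex : ∀ a : I, ∃ s, eA (χ s) = (a : A) := fun a => (hmemI _).1 a.2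
  choose pre hpre using hex
  have hpre' : ∀ (a : I) s, eA (χ s) = (a : A) → D (pre a) = D s := fun a s hs =>
    congrArg D (hχ (eA.injective ((hpre a).trans hs.symm)))
  have hsemi : ∀ (x : A) (a : I), D (pre (x • a)) = Bialgebra.comulAlgHom k A x * D (pre a) := fun x a => by
    rw [hpre' (x • a) (eA.symm x • pre a) (by
      rw [map_smul, smul_eq_mul, map_mul, eA.apply_symm_apply, hpre]; rfl), hDsmul, eA.apply_symm_apply]
  let δ₀ : (I.restrictScalars k) →ₗ[k] A ⊗[k] A :=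
    { toFun := fun a => D (pre ⟨a.1, a.2⟩)
      map_add' := fun a b => by
        rw [← hDadd]
        exact hpre' _ _ (by rw [map_add, map_add, hpre, hpre]; rfl)
      map_smul' := fun r a => by
        have e : (⟨(r • a).1, (r • a).2⟩ : I) = algebraMap k A r • ⟨a.1, a.2⟩ :=
          Subtype.ext (Algebra.smul_def r a.1)
        rw [RingHom.id_apply, e, hsemi, AlgHom.commutes, ← Algebra.smul_def] }
  obtain ⟨δ, hδ⟩ := LinearMap.exists_extend δ₀
  have hδI : ∀ a : I, δ a = D (pre a) := fun a => LinearMap.congr_fun hδ ⟨a.1, a.2⟩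
  refine ⟨LinearMap.range χ, J₀.map eA.toRingHom, eA (χ s₀), δ, ⟨L, hL, χ, hχ, rfl, rfl⟩,
    (map_ne_zero_iff _ eA.injective).2 hs₀, ?_, ⟨eA (χ s₀), (hmemI _).2 ⟨s₀, rfl⟩, ?_⟩, ⟨fun x a ha => ?_, ?_⟩⟩
  · rw [← Ideal.map_mul, hJ₀, Ideal.map_span, Set.image_singleton]
    rfl
  · rw [hN, map_pow, map_pow]
    exact pow_ne_zero _ hgε
  · exact (hδI (x • ⟨a, ha⟩)).trans ((hsemi x ⟨a, ha⟩).trans (congrArg _ (hδI ⟨a, ha⟩).symm))
  · have himg : δ '' (I : Set A) = Set.range D := by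
      ext z
      constructor
      · rintro ⟨a, ha, rfl⟩; exact ⟨_, (hδI ⟨a, ha⟩).symm⟩
      · rintro ⟨s, rfl⟩
        exact ⟨eA (χ s), (hmemI _).2 ⟨s, rfl⟩,
          (hδI ⟨_, (hmemI _).2 ⟨s, rfl⟩⟩).trans (hpre' _ s rfl)⟩
    have hcov := span_eq_top hT (fun s : Γ(L, ⊤) => φ.hom.app ⊤ (puT μ s)) fun y => by
      obtain ⟨σ, hσ⟩ := exists_gen hL (μ y)
      exact ⟨σ, (TwistLib.genAt_app_iso φ _ (show y ∈ (⊤ : Opens _) from trivial)).2 (puT_genAt μ hσ)⟩
    have hrange : Ideal.span (Set.range fun s : Γ(L, ⊤) => Λ (φ.hom.app ⊤ (puT μ s))) =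
        Ideal.span (Set.range fun p : Γ(L, ⊤) × Γ(L, ⊤) => p₁.appTop (χ p.1) * p₂.appTop (χ p.2)) := by
      rw [← hΛ, LinearMap.range_eq_map, ← hcov, Submodule.map_span, ← Set.range_comp]
      rfl
    have hr2 := congrArg (Ideal.map eP.toRingHom) hrange
    rw [Ideal.map_span, Ideal.map_span, ← Set.range_comp, ← Set.range_comp] at hr2
    rw [himg, box_eq_span']
    refine hr2.trans (congrArg Ideal.span ?_)
    ext z
    constructor
    · rintro ⟨⟨s, t⟩, rfl⟩
      refine ⟨eA (χ s), (hmemI _).2 ⟨s, rfl⟩, eA (χ t), (hmemI _).2 ⟨t, rfl⟩, ?_⟩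
      simp only [Function.comp_apply, RingEquiv.toRingHom_eq_coe, RingEquiv.coe_toRingHom, map_mul]
      rw [eSpec_appTop, eSpec_appTop]
      simp [eA]
    · rintro ⟨a, ha, b, hb, rfl⟩
      obtain ⟨s, rfl⟩ := (hmemI a).1 ha
      obtain ⟨t, rfl⟩ := (hmemI b).1 hb
      refine ⟨(s, t), ?_⟩
      simp only [Function.comp_apply, RingEquiv.toRingHom_eq_coe, RingEquiv.coe_toRingHom, map_mul]
      rw [eSpec_appTop, eSpec_appTop]
      simp [eA]

end Groth.Agent.FinPicGrp
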