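import Groth.Agent.FinPicGrpLib.Sections
import Groth.Agent.GeomRedFibLib.FiniteCharacter
import Mathlib.GroupTheory.FiniteAbelian.Basic
import Mathlib.RingTheory.DiscreteValuationRing.TFAE

/-!
# Finiteness of a torsion Picard group of an affine normal variety which is locally factorial on a
dense open

Invertible ideals containing a power of `f` are determined by their orders at the finitely many
height one primes containing `f`.
-/

set_option autoImplicit false
set_option linter.style.haveILetI false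
set_option backward.isDefEq.respectTransparency false
set_option maxHeartbeats 1000000

noncomputable section

universe u

open CategoryTheory AlgebraicGeometry TopologicalSpace Opposite
open AmpleLib (res GenAt GenOn shT)
open CubeConsLib (clA PicA)

namespace Groth.Agent.FinPicGrp

section Algebra

variable {R : Type u} [CommRing R] [IsDomain R] [IsNoetherianRing R] {f : R}

theorem mem_span_pow (hf : f ≠ 0) : ∀ (N : ℕ) (r : R),
    (∀ Q ∈ associatedPrimes R (R ⧸ Ideal.span {f}), ∃ s ∉ Q, s * r ∈ Ideal.span {f ^ N}) →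
    r ∈ Ideal.span {f ^ N}
  | 0, r, _ => by rw [pow_zero, Ideal.span_singleton_one]; exact Submodule.mem_top
  | N + 1, r, h => by
    have h1 : r ∈ Ideal.span {f} := GeomRedFibLib.mem_span_of_forall_associatedPrimes fun Q hQ => by
      obtain ⟨s, hs, hsr⟩ := h Q hQ
      exact ⟨s, hs, Ideal.span_singleton_le_span_singleton.2 (dvd_pow_self f N.succ_ne_zero) hsr⟩
    obtain ⟨r', rfl⟩ := Ideal.mem_span_singleton'.1 h1
    have h2 : r' ∈ Ideal.span {f ^ N} := mem_span_pow hf N r' fun Q hQ => by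
      obtain ⟨s, hs, hsr⟩ := h Q hQ
      obtain ⟨b, hb⟩ := Ideal.mem_span_singleton'.1 hsr
      exact ⟨s, hs, Ideal.mem_span_singleton'.2 ⟨b, mul_right_cancel₀ hf (by linear_combination hb)⟩⟩
    obtain ⟨b, hb⟩ := Ideal.mem_span_singleton'.1 h2
    exact Ideal.mem_span_singleton'.2 ⟨b, by rw [← hb]; ring⟩

variable (f) in
/-- Invertible ideals dividing a power of `f`. -/
def Div (I : Ideal R) : Prop := ∃ (J : Ideal R) (N : ℕ), I * J = Ideal.span {f ^ N}

omit [IsDomain R] [IsNoetherianRing R] in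
theorem Div.mul {I K : Ideal R} (hI : Div f I) (hK : Div f K) : Div f (I * K) := by
  obtain ⟨J, N, h⟩ := hI
  obtain ⟨J', N', h'⟩ := hK
  exact ⟨J * J', N + N', by rw [mul_mul_mul_comm, h, h', Ideal.span_singleton_mul_span_singleton, pow_add]⟩

omit [IsDomain R] [IsNoetherianRing R] in
theorem Div.one : Div f (⊤ : Ideal R) := ⟨⊤, 0, by rw [pow_zero, Ideal.span_singleton_one, Ideal.top_mul]⟩

/-- Ideals in `Div f` with the same localisations at the associated primes of `f` are equal. -/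
theorem Div.le_of_map_eq (hf : f ≠ 0) {I K : Ideal R} (hI : Div f I)
    (h : ∀ (Q : Ideal R) [Q.IsPrime], Q ∈ associatedPrimes R (R ⧸ Ideal.span {f}) →
      I.map (algebraMap R (Localization.AtPrime Q)) = K.map (algebraMap R (Localization.AtPrime Q))) :
    K ≤ I := by
  obtain ⟨J, N, hJ⟩ := hI
  intro x hx
  have hxJ : Ideal.span {x} * J ≤ Ideal.span {f ^ N} := Ideal.span_singleton_mul_le_iff.2 fun j hj => by
    refine mem_span_pow hf N _ fun Q hQ => ?_
    haveI : Q.IsPrime := IsAssociatedPrime.isPrime hQ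
    have h1 : algebraMap R (Localization.AtPrime Q) (x * j) ∈
        (Ideal.span {f ^ N}).map (algebraMap R (Localization.AtPrime Q)) := by
      rw [← hJ, Ideal.map_mul, h Q hQ, map_mul]
      exact Ideal.mul_mem_mul (Ideal.mem_map_of_mem _ hx) (Ideal.mem_map_of_mem _ hj)
    obtain ⟨s, hs, hsr⟩ := (IsLocalization.algebraMap_mem_map_algebraMap_iff Q.primeCompl _ _ _).1 h1
    exact ⟨s, hs, hsr⟩
  have h2 : x * f ^ N ∈ I * Ideal.span {f ^ N} := by
    refine (Ideal.mul_mono_right hxJ : I * (Ideal.span {x} * J) ≤ _) ?_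
    rw [mul_left_comm, hJ]
    exact Ideal.mul_mem_mul (Ideal.mem_span_singleton_self x) (Ideal.mem_span_singleton_self _)
  obtain ⟨i, hi, hix⟩ := Ideal.mem_mul_span_singleton.1 h2
  rwa [← mul_right_cancel₀ (pow_ne_zero N hf) hix]

variable [IsIntegrallyClosed R]

theorem exists_order (hf : f ≠ 0) (Q : associatedPrimes R (R ⧸ Ideal.span {f})) :
    ∃ v : Ideal R → ℕ, (∀ I K, Div f I → Div f K → v (I * K) = v I + v K) ∧
      ∀ I K, Div f I → Div f K → v I = v K →
        haveI := IsAssociatedPrime.isPrime Q.2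
        I.map (algebraMap R (Localization.AtPrime Q.1)) = K.map (algebraMap R (Localization.AtPrime Q.1)) := by
  haveI := IsAssociatedPrime.isPrime Q.2
  let O := Localization.AtPrime Q.1
  haveI : IsDiscreteValuationRing O := GeomRedFibLib.isDVR_localization_of_mem_associatedPrimes hf Q.1 Q.2
  obtain ⟨ϖ, hϖ⟩ := IsDiscreteValuationRing.exists_irreducible O
  have hne : ∀ I, Div f I → I.map (algebraMap R O) ≠ ⊥ := by
    rintro I ⟨J, N, h⟩ h0
    have h1 := congrArg (Ideal.map (algebraMap R O)) h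
    rw [Ideal.map_mul, h0, Ideal.bot_mul, Ideal.map_span, Set.image_singleton, eq_comm,
      Ideal.span_singleton_eq_bot] at h1
    exact pow_ne_zero N hf (IsLocalization.injective O Q.1.primeCompl_le_nonZeroDivisors
      (h1.trans (map_zero (algebraMap R O)).symm))
  have hex : ∀ I, ∃ n : ℕ, Div f I → I.map (algebraMap R O) = Ideal.span {ϖ ^ n} := fun I => by
    by_cases hI : Div f I
    · obtain ⟨n, hn⟩ := IsDiscreteValuationRing.ideal_eq_span_pow_irreducible (hne I hI) hϖ
      exact ⟨n, fun _ => hn⟩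
    · exact ⟨0, fun h => absurd h hI⟩
  choose v hv using hex
  have hinj : ∀ m n : ℕ, Ideal.span {ϖ ^ m} = Ideal.span {ϖ ^ n} → m = n := fun m n h =>
    le_antisymm
      ((pow_dvd_pow_iff hϖ.ne_zero hϖ.not_isUnit).1 (Ideal.span_singleton_le_span_singleton.1 h.ge))
      ((pow_dvd_pow_iff hϖ.ne_zero hϖ.not_isUnit).1 (Ideal.span_singleton_le_span_singleton.1 h.le))
  refine ⟨v, fun I K hI hK => hinj _ _ ?_, fun I K hI hK h => (hv I hI).trans (h ▸ (hv K hK).symm)⟩
  rw [← hv _ (hI.mul hK), Ideal.map_mul, hv I hI, hv K hK, Ideal.span_singleton_mul_span_singleton, pow_add]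

end Algebra

variable {X : Scheme.{u}} [IsAffine X] [IsIntegral X]

/-- A torsion Picard group is finite when every class is supported on a fixed principal divisor. -/
theorem finite_classes [IsNoetherianRing Γ(X, ⊤)] [IsIntegrallyClosed Γ(X, ⊤)] {f : Γ(X, ⊤)} (hf : f ≠ 0)
    (htriv : ∀ L : X.Modules, PicF.IsInvertible L → ∃ σ : Γ(L, X.basicOpen f), GenOn L σ)
    (htors : ∀ (L : X.Modules) (hL : PicF.IsInvertible L), ∃ n : ℕ, n ≠ 0 ∧ n • clA hL = 0) :
    Set.Finite {c : PicA X | ∃ (L : X.Modules) (hL : PicF.IsInvertible L), clA hL = c} := by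
  classical
  haveI : IsDomain Γ(X, ⊤) := inferInstance
  let S := associatedPrimes Γ(X, ⊤) (Γ(X, ⊤) ⧸ Ideal.span {f})
  haveI : Finite S := (associatedPrimes.finite _ _).to_subtype
  haveI := Fintype.ofFinite S
  choose v hmul hv using fun Q : S => exists_order hf Q
  let e : Ideal Γ(X, ⊤) → (S → ℤ) := fun I Q => (v Q I : ℤ)
  have heinj : ∀ I K, Div f I → Div f K → e I = e K → I = K := fun I K hI hK h => by
    have hval : ∀ Q, v Q I = v Q K := fun Q => Int.ofNat_inj.1 (congrFun h Q)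
    refine le_antisymm (hK.le_of_map_eq hf fun Q _ hQ => ?_) (hI.le_of_map_eq hf fun Q _ hQ => ?_)
    · exact (hv ⟨Q, hQ⟩ I K hI hK (hval _)).symm
    · exact hv ⟨Q, hQ⟩ I K hI hK (hval _)
  -- every class is supported on the divisor of `f`
  have hsupp : ∀ (L : X.Modules) (hL : PicF.IsInvertible L), ∃ I, Rep (clA hL) I ∧ Div f I := by
    intro L hL
    haveI := TwistLib.isQCoh_of_isInvertible hL
    obtain ⟨σ, hσ⟩ := htriv L hL
    obtain ⟨n, t, ht⟩ := (QCohLib.localizingAt_of_isQCoh (isAffineOpen_top X) L f).exists_extend σ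
    have hle : X.basicOpen f ≤ TwistLib.genSet hL t := fun x hx => by
      refine (AmpleLib.genAt_res (le_top : X.basicOpen f ≤ ⊤) t hx).1 ?_
      rw [show res L le_top t = _ from ht, AmpleLib.genAt_smul_iff _ _ _ (hσ.genAt hx),
        Scheme.mem_basicOpen X _ x hx, map_pow]
      refine IsUnit.pow n ?_
      rw [TopCat.Presheaf.germ_res_apply]
      exact (X.mem_basicOpen f x trivial).1 hx
    obtain ⟨χ, hχ, N, hN⟩ := exists_emb_of_genSet hL t hf hle
    obtain ⟨J, hJ⟩ := exists_inverse hL hχ t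
    exact ⟨_, ⟨L, hL, χ, hχ, rfl, rfl⟩, J, N, hN ▸ hJ⟩
  let H : AddSubgroup ((S → ℤ) × PicA X) := AddSubgroup.closure
    {z | ∃ I c, Rep c I ∧ Div f I ∧ z = (e I, c)}
  have hform : ∀ z ∈ H, ∃ I K c d, Rep c I ∧ Div f I ∧ Rep d K ∧ Div f K ∧ z = (e I, c) - (e K, d) := by
    have h1 : Rep (0 : PicA X) (⊤ : Ideal Γ(X, ⊤)) := Ideal.span_singleton_one (α := Γ(X, ⊤)) ▸ Rep.zero one_ne_zero
    have he1 : e ⊤ = 0 := funext fun Q => by
      have h := hmul Q ⊤ ⊤ Div.one Div.one
      rw [Ideal.top_mul] at h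
      show (v Q ⊤ : ℤ) = 0
      omega
    intro z hz
    induction hz using AddSubgroup.closure_induction with
    | mem z hz =>
      obtain ⟨I, c, hc, hI, rfl⟩ := hz
      exact ⟨I, ⊤, c, 0, hc, hI, h1, Div.one, by rw [he1, Prod.mk_zero_zero, sub_zero]⟩
    | zero => exact ⟨⊤, ⊤, 0, 0, h1, Div.one, h1, Div.one, (sub_self _).symm⟩
    | add z z' _ _ hz hz' =>
      obtain ⟨I, K, c, d, hc, hI, hd, hK, rfl⟩ := hz
      obtain ⟨I', K', c', d', hc', hI', hd', hK', rfl⟩ := hz'
      refine ⟨I * I', K * K', c + c', d + d', hc.mul hc', hI.mul hI', hd.mul hd', hK.mul hK', ?_⟩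
      have e2 : ∀ I K, Div f I → Div f K → e (I * K) = e I + e K := fun I K hI hK => funext fun Q => by
        show (v Q (I * K) : ℤ) = v Q I + v Q K
        rw [hmul Q I K hI hK, Nat.cast_add]
      rw [e2 _ _ hI hI', e2 _ _ hK hK', ← Prod.mk_add_mk, ← Prod.mk_add_mk]
      abel
    | neg z _ hz =>
      obtain ⟨I, K, c, d, hc, hI, hd, hK, rfl⟩ := hz
      exact ⟨K, I, d, c, hd, hK, hc, hI, neg_sub _ _⟩
  let p : H →+ (S → ℤ) := (AddMonoidHom.fst _ _).comp H.subtype
  have hp : Function.Injective p := (injective_iff_map_eq_zero p).2 fun z hz => by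
    obtain ⟨I, K, c, d, hc, hI, hd, hK, hzz⟩ := hform z.1 z.2
    have h0 : e I - e K = 0 := by
      have h : (z.1).1 = 0 := hz
      rwa [hzz] at h
    have hIK := heinj I K hI hK (sub_eq_zero.1 h0)
    subst hIK
    refine Subtype.ext ?_
    rw [hzz, hc.eq hd, sub_self]
    rfl
  haveI : Module.Finite ℤ H := Module.Finite.of_injective p.toIntLinearMap hp
  let q : H →+ PicA X := (AddMonoidHom.snd _ _).comp H.subtype
  let K := q.range
  haveI : Module.Finite ℤ K := Module.Finite.of_surjective q.rangeRestrict.toIntLinearMap q.rangeRestrict_surjective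
  have htK : IsAddTorsion K := fun x => by
    obtain ⟨z, hz⟩ := x.2
    obtain ⟨I, J, c, d, hc, -, hd, -, hzz⟩ := hform z.1 z.2
    obtain ⟨L, hL, -, -, rfl, -⟩ := hc
    obtain ⟨M, hM, -, -, rfl, -⟩ := hd
    obtain ⟨n, hn, hnc⟩ := htors L hL
    obtain ⟨m, hm, hmd⟩ := htors M hM
    rw [isOfFinAddOrder_iff_nsmul_eq_zero]
    refine ⟨n * m, Nat.pos_of_ne_zero (mul_ne_zero hn hm), Subtype.ext ?_⟩
    have hx : (x : PicA X) = clA hL - clA hM := by
      rw [← hz]
      show (z.1).2 = _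
      rw [hzz]
      rfl
    rw [AddSubgroup.coe_nsmul, hx, smul_sub, mul_nsmul, hnc, smul_zero, mul_nsmul', hmd, smul_zero,
      sub_zero]
    rfl
  haveI : AddGroup.FG K := Module.Finite.iff_addGroup_fg.1 inferInstance
  haveI : Finite K := AddCommGroup.finite_of_fg_isAddTorsion K htK
  refine (Set.finite_range (fun x : K => (x : PicA X))).subset ?_
  rintro _ ⟨L, hL, rfl⟩
  obtain ⟨I, hI, hdiv⟩ := hsupp L hL
  exact ⟨⟨clA hL, ⟨(e I, clA hL), AddSubgroup.subset_closure ⟨I, _, hI, hdiv, rfl⟩⟩, rfl⟩, rfl⟩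

end Groth.Agent.FinPicGrp
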