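import Groth.Agent.FinPicGrpLib.Bridge
import Groth.Agent.FinPicGrpLib.Finite
import Groth.Agent.BorelLib.Dim
import Groth.Agent.BorelLib.Borel
import Groth.Agent.FinEtNeronLib.Main
import Groth.Agent.ParaFLib.Local
import Groth.Agent.LMLib.Rank
import Groth.Agent.S16119
import Mathlib.RingTheory.LocalProperties.IntegrallyClosed

/-!
# The Picard group of a connected linear algebraic group is finite
-/

set_option autoImplicit false
set_option linter.style.haveILetI false
set_option backward.isDefEq.respectTransparency false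
set_option maxHeartbeats 2000000

noncomputable section

universe u

open CategoryTheory CategoryTheory.Limits MonoidalCategory CartesianMonoidalCategory AlgebraicGeometry
open TopologicalSpace
open scoped MonObj TensorProduct
open CoactBr (sp)
open AmpleLib (res GenAt GenOn)
open CubeConsLib (clA pullA PicA)

attribute [-instance] CategoryTheory.Hom.commGroup

namespace Groth.Agent.FinPicGrp

variable {k : Type u} [Field k] [IsAlgClosed k]

/-- A class pulled back through the base field vanishes. -/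
theorem pullA_factor {Z W : Scheme.{u}} (f : Z ⟶ Spec (CommRingCat.of k)) (g : Spec (CommRingCat.of k) ⟶ W)
    {L : W.Modules} (hL : PicF.IsInvertible L) : pullA (f ≫ g) (clA hL) = 0 := by
  haveI : Subsingleton ↥(Spec (CommRingCat.of k)) := inferInstanceAs (Subsingleton (PrimeSpectrum k))
  haveI : Nonempty ↥(Spec (CommRingCat.of k)) := inferInstanceAs (Nonempty (PrimeSpectrum k))
  rw [← CubeConsLib.pullA_comp, Groth.Agent.S16120.pullA_point, map_zero]

variable (G : Over (Spec (CommRingCat.of k))) [GrpObj G] [IsAffine G.left] [Smooth G.hom] [ConnectedSpace ↥G.left]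

/-- Line bundles on the square of the group come from the factors. -/
theorem exists_decomp {Z : Scheme.{u}} (Θ : Z ⟶ (G ⊗ G).left) [IsIso Θ] {M : Z.Modules}
    (hM : PicF.IsInvertible M) :
    ∃ (M₁ M₂ : G.left.Modules) (h₁ : PicF.IsInvertible M₁) (h₂ : PicF.IsInvertible M₂),
      clA hM = pullA (Θ ≫ (fst G G).left) (clA h₁) + pullA (Θ ≫ (snd G G).left) (clA h₂) := by
  haveI := AlbLib.geometricallyIntegral_grp G
  haveI : Subsingleton ↥(Spec (CommRingCat.of k)) := inferInstanceAs (Subsingleton (PrimeSpectrum k))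
  haveI : Nonempty ↥(Spec (CommRingCat.of k)) := inferInstanceAs (Nonempty (PrimeSpectrum k))
  haveI : IsIntegral G.left := GeometricallyIntegral.isIntegral_of_subsingleton G.hom
  haveI : IsSeparated G.hom := Groth.Agent.GrpField.isSeparated_grp (G := G)
  letI : G.left.Over (Spec (CommRingCat.of k)) := ⟨G.hom⟩
  haveI : Smooth (G.left ↘ Spec (CommRingCat.of k)) := ‹Smooth G.hom›
  have hG : Pi1.IsNormalScheme G.left := HurwitzLib.isNormalScheme_of_smooth (k := k)
  letI := LMLib.law G.left
  letI := LMLib.law (G ⊗ G).left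
  obtain ⟨⟨a, b⟩, hab⟩ := (Groth.Agent.S16120.result k G G hG hG (Groth.Agent.S16121.result k G)
    (Groth.Agent.S16119.pullMul _) (Groth.Agent.S16119.pullMul _)).2
      (PicGrp.cls _ (AmpleDevLib.isInvertible_pb (inv Θ) hM))
  obtain ⟨M₁, h₁, rfl⟩ := PicGrp.exists_eq_cls a
  obtain ⟨M₂, h₂, rfl⟩ := PicGrp.exists_eq_cls b
  refine ⟨M₁, M₂, h₁, h₂, ?_⟩
  have h := congrArg (fun d => pullA Θ (Groth.Agent.S16120.toA d)) hab
  simp only [Groth.Agent.S16120.toA_mul, Groth.Agent.S16120.toA_pullHom, Groth.Agent.S16120.toA_cls,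
    map_add, ← CubeConsLib.pullA_clA (inv Θ) hM, CubeConsLib.pullA_comp, IsIso.hom_inv_id,
    CubeConsLib.pullA_id] at h
  exact h.symm

variable {G} {A : Type u} [CommRing A] [HopfAlgebra k A]

/-- The class of a line bundle on the group is primitive. -/
theorem primitive_class (v : sp k A ≅ G) {L : (Spec (CommRingCat.of A)).Modules} (hL : PicF.IsInvertible L) :
    pullA (specHom k A (Bialgebra.comulAlgHom k A)) (clA hL) =
      pullA (specHom k A Algebra.TensorProduct.includeLeft) (clA hL) +
      pullA (specHom k A Algebra.TensorProduct.includeRight) (clA hL) := by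
  let τ : sp k (A ⊗[k] A) ⟶ sp k A ⊗ sp k A :=
    lift (CoactBr.pt (Algebra.TensorProduct.includeLeft (R := k) (S := k) (A := A) (B := A)))
      (CoactBr.pt (Algebra.TensorProduct.includeRight (R := k) (A := A) (B := A)))
  haveI : IsIso τ.left := by
    have : τ.left = (pullbackSpecIso k A A).inv := by
      refine pullback.hom_ext ?_ ?_
      · exact (congrArg Over.Hom.left (lift_fst (CoactBr.pt (Algebra.TensorProduct.includeLeft (R := k) (S := k) (A := A) (B := A))) (CoactBr.pt (Algebra.TensorProduct.includeRight (R := k) (A := A) (B := A))))).trans (pullbackSpecIso_inv_fst k A A).symm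
      · exact (congrArg Over.Hom.left (lift_snd (CoactBr.pt (Algebra.TensorProduct.includeLeft (R := k) (S := k) (A := A) (B := A))) (CoactBr.pt (Algebra.TensorProduct.includeRight (R := k) (A := A) (B := A))))).trans (pullbackSpecIso_inv_snd k A A).symm
    rw [this]; infer_instance
  let Θ : sp k (A ⊗[k] A) ⟶ G ⊗ G := τ ≫ (v.hom ⊗ₘ v.hom)
  haveI : IsIso (v.hom ⊗ₘ v.hom).left := (Over.forget _).map_isIso (v.hom ⊗ₘ v.hom)
  haveI : IsIso Θ.left := by simp only [Θ, Over.comp_left]; infer_instance
  let Θl : Spec (CommRingCat.of (A ⊗[k] A)) ⟶ (G ⊗ G).left := Θ.left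
  haveI : IsIso Θl := ‹IsIso Θ.left›
  let vl : Spec (CommRingCat.of A) ⟶ G.left := v.hom.left
  obtain ⟨M₁, M₂, h₁, h₂, h⟩ :=
    exists_decomp G Θl (AmpleDevLib.isInvertible_pb (specHom k A (Bialgebra.comulAlgHom k A)) hL)
  have hf₁ : Θl ≫ (fst G G).left = specHom k A Algebra.TensorProduct.includeLeft ≫ vl := by
    have e : Θ ≫ fst G G = CoactBr.pt (Algebra.TensorProduct.includeLeft (R := k) (S := k) (A := A) (B := A)) ≫ v.hom := by
      simp only [Θ, τ, Category.assoc, tensorHom_fst, lift_fst_assoc]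
    exact congrArg Over.Hom.left e
  have hf₂ : Θl ≫ (snd G G).left = specHom k A Algebra.TensorProduct.includeRight ≫ vl := by
    have e : Θ ≫ snd G G = CoactBr.pt (Algebra.TensorProduct.includeRight (R := k) (A := A) (B := A)) ≫ v.hom := by
      simp only [Θ, τ, Category.assoc, tensorHom_snd, lift_snd_assoc]
    exact congrArg Over.Hom.left e
  rw [hf₁, hf₂, ← CubeConsLib.pullA_clA (specHom k A (Bialgebra.comulAlgHom k A)) hL,
    ← CubeConsLib.pullA_comp _ vl, ← CubeConsLib.pullA_comp _ vl,
    CubeConsLib.pullA_clA vl h₁, CubeConsLib.pullA_clA vl h₂] at h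
  -- restrict to the axes
  have hx : ∀ (e : A ⊗[k] A →ₐ[k] A) (f : A →ₐ[k] A ⊗[k] A) (x : PicA (Spec (CommRingCat.of A))),
      pullA (Spec.map (CommRingCat.ofHom e.toRingHom)) (pullA (specHom k A f) x) =
        pullA (Spec.map (CommRingCat.ofHom (e.comp f).toRingHom)) x := fun e f x => by
    rw [CubeConsLib.pullA_comp, ← Spec.map_comp]; rfl
  have hid : ∀ x : PicA (Spec (CommRingCat.of A)),
      pullA (Spec.map (CommRingCat.ofHom (AlgHom.id k A).toRingHom)) x = x := fun x => by
    rw [show CommRingCat.ofHom (AlgHom.id k A).toRingHom = 𝟙 _ from rfl, Spec.map_id, CubeConsLib.pullA_id]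
  have hpt : ∀ {M : (Spec (CommRingCat.of A)).Modules} (hM : PicF.IsInvertible M),
      pullA (Spec.map (CommRingCat.ofHom
        ((Algebra.ofId k A).comp (Bialgebra.counitAlgHom k A)).toRingHom)) (clA hM) = 0 := fun hM => by
    rw [show CommRingCat.ofHom ((Algebra.ofId k A).comp (Bialgebra.counitAlgHom k A)).toRingHom =
      CommRingCat.ofHom (Bialgebra.counitAlgHom k A).toRingHom ≫ CommRingCat.ofHom (Algebra.ofId k A).toRingHom
      from rfl, Spec.map_comp, pullA_factor _ _ hM]
  have e1l : (e₁ k A A).comp Algebra.TensorProduct.includeLeft =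
      (Algebra.ofId k A).comp (Bialgebra.counitAlgHom k A) :=
    AlgHom.ext fun x => by simp [Algebra.algebraMap_eq_smul_one, Algebra.ofId_apply]
  have e2r : (e₂ k A).comp Algebra.TensorProduct.includeRight =
      (Algebra.ofId k A).comp (Bialgebra.counitAlgHom k A) :=
    AlgHom.ext fun x => by simp [Algebra.algebraMap_eq_smul_one, Algebra.ofId_apply]
  have e1r : (e₁ k A A).comp Algebra.TensorProduct.includeRight = AlgHom.id k A := AlgHom.ext fun x => by simp
  have e2l : (e₂ k A).comp Algebra.TensorProduct.includeLeft = AlgHom.id k A := AlgHom.ext fun x => by simp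
  have c1 := congrArg (pullA (Spec.map (CommRingCat.ofHom (e₁ k A A).toRingHom))) h
  have c2 := congrArg (pullA (Spec.map (CommRingCat.ofHom (e₂ k A).toRingHom))) h
  rw [map_add, hx, hx, hx, show (e₁ k A A).comp (Bialgebra.comulAlgHom k A) = AlgHom.id k A from
    AlgHom.ext e₁_comul, e1l, e1r, hid, hid, hpt, zero_add] at c1
  rw [map_add, hx, hx, hx, show (e₂ k A).comp (Bialgebra.comulAlgHom k A) = AlgHom.id k A from
    AlgHom.ext e₂_comul, e2l, e2r, hid, hid, hpt, add_zero] at c2
  rwa [← c1, ← c2] at h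

/-- Every class on the group is torsion. -/
theorem torsion [IsDomain A] [Algebra.FiniteType k A] (v : sp k A ≅ G)
    {L : (Spec (CommRingCat.of A)).Modules} (hL : PicF.IsInvertible L) :
    ∃ n : ℕ, n ≠ 0 ∧ n • clA hL = 0 := by
  haveI : IsDomain (A ⊗[k] A) := BorelLib.isDomain_tensor
  haveI : Algebra.FiniteType k (A ⊗[k] A) :=
    Algebra.FiniteType.trans (S := A) ‹_› (Algebra.FiniteType.baseChange A)
  haveI : IsDomain (A ⊗[k] (A ⊗[k] A)) := BorelLib.isDomain_tensor
  obtain ⟨I₀, J, c, δ, hrep, hc, hIJ, hε, hprim⟩ := exists_prim hL (primitive_class v hL)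
  obtain ⟨n, hn, d, hd⟩ := hprim.exists_pow_principal hc hIJ hε
  have hd0 : d ≠ 0 := fun h0 => by
    rw [h0, Ideal.span_singleton_eq_bot.2 rfl] at hd
    obtain ⟨a, ha, ha'⟩ := hε
    have h2 := Ideal.pow_mem_pow ha n
    rw [hd, Ideal.mem_bot] at h2
    exact ha' (by rw [pow_eq_zero_iff hn |>.1 h2, map_zero])
  have h := congrArg (Ideal.map (eSpec A).symm.toRingHom) hd
  rw [← Ideal.map_pow, Ideal.map_span, Set.image_singleton, Ideal.map_map,
    show (eSpec A).symm.toRingHom.comp (eSpec A).toRingHom = RingHom.id _ from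
      RingHom.ext (eSpec A).symm_apply_apply, Ideal.map_id] at h
  refine ⟨n, hn, Rep.eq_zero ?_ (h ▸ hrep.pow n)⟩
  exact (map_ne_zero_iff _ (eSpec A).symm.injective).2 hd0

variable (G)

/-- The Picard group is finite. -/
theorem finite_picSet : Finite (PicLoc.PicSet G.left) := by
  obtain ⟨A, _, _, v, hv, hA, -⟩ := BorelLib.exists_setup G
  haveI := hA
  haveI : IsIso v.hom.left := (Over.forget _).map_isIso v.hom
  haveI := AlbLib.geometricallyIntegral_grp G
  haveI : Subsingleton ↥(Spec (CommRingCat.of k)) := inferInstanceAs (Subsingleton (PrimeSpectrum k))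
  haveI : IsIntegral G.left := GeometricallyIntegral.isIntegral_of_subsingleton G.hom
  haveI : Nonempty ↥(Spec (CommRingCat.of A)) := ⟨(inv v.hom.left) (genericPoint G.left)⟩
  haveI : IsIntegral (Spec (CommRingCat.of A)) := isIntegral_of_isOpenImmersion (f := v.hom.left)
  haveI : IsDomain A := (affine_isIntegral_iff (CommRingCat.of A)).1 inferInstance
  let X := Spec (CommRingCat.of A)
  -- normality
  letI : G.left.Over (Spec (CommRingCat.of k)) := ⟨G.hom⟩
  haveI : Smooth (G.left ↘ Spec (CommRingCat.of k)) := ‹Smooth G.hom›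
  letI : X.Over (Spec (CommRingCat.of k)) := ⟨(sp k A).hom⟩
  haveI : Smooth (X ↘ Spec (CommRingCat.of k)) := by
    show Smooth (sp k A).hom
    rw [← Over.w v.hom]; infer_instance
  haveI : IsNoetherianRing A := Algebra.FiniteType.isNoetherianRing k A
  haveI : IsIntegrallyClosed A := IsIntegrallyClosed.of_localization_maximal fun p _ hp => by
    haveI := hp.isPrime
    exact (FinEtNeronLib.isNormalRing_of_spec A (HurwitzLib.isNormalScheme_of_smooth (k := k)) p).2
  haveI : IsIntegrallyClosed Γ(X, ⊤) := IsIntegrallyClosed.of_equiv (eSpec A).symm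
  haveI : IsNoetherianRing Γ(X, ⊤) := isNoetherianRing_of_ringEquiv A (eSpec A).symm
  -- a factorial open
  obtain ⟨U, n, V, e, ⟨x, hx⟩, -⟩ := Groth.Agent.S16121.result k G
  have hxU : (inv v.hom.left) x ∈ v.hom.left ⁻¹ᵁ U := by
    show v.hom.left ((inv v.hom.left) x) ∈ U
    rw [← Scheme.Hom.comp_apply, IsIso.inv_hom_id]
    exact hx
  obtain ⟨f, hfU, hxf⟩ := (isAffineOpen_top X).exists_basicOpen_le ⟨(inv v.hom.left) x, hxU⟩ trivial
  have hf : f ≠ 0 := fun h0 => by
    rw [h0, Scheme.basicOpen_zero] at hxf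
    exact hxf
  let w : (X.basicOpen f : Scheme.{u}) ⟶ (U : Scheme.{u}) :=
    IsOpenImmersion.lift U.ι ((X.basicOpen f).ι ≫ v.hom.left) (by
      rintro _ ⟨z, rfl⟩
      rw [Scheme.Opens.range_ι]
      exact hfU z.2)
  haveI : IsOpenImmersion (w ≫ U.ι) := by rw [IsOpenImmersion.lift_fac]; infer_instance
  haveI : IsOpenImmersion w := IsOpenImmersion.of_comp w U.ι
  have htriv : ∀ L : X.Modules, PicF.IsInvertible L → ∃ σ : Γ(L, X.basicOpen f), GenOn L σ := by
    intro L hL
    obtain ⟨i⟩ := SquareLib.trivial_of_open_affineSpace (F := k) (w ≫ e.hom ≫ V.ι)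
      (AmpleDevLib.isInvertible_pb (X.basicOpen f).ι hL)
    exact ParaFLib.exists_genOn_of_iso
      ((Scheme.Modules.restrictFunctorIsoPullback (X.basicOpen f).ι).app L ≪≫ i)
  have hfin := finite_classes hf htriv fun L hL => torsion v hL
  haveI := hfin.to_subtype
  refine Finite.of_injective (fun c : PicLoc.PicSet G.left =>
    (⟨pullA v.hom.left (Groth.Agent.S16120.toA c), by
      obtain ⟨L, hL, rfl⟩ := PicGrp.exists_eq_cls c
      exact ⟨_, AmpleDevLib.isInvertible_pb v.hom.left hL, by
        rw [Groth.Agent.S16120.toA_cls, CubeConsLib.pullA_clA]⟩⟩ :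
      {c : PicA X | ∃ (L : X.Modules) (hL : PicF.IsInvertible L), clA hL = c})) fun c d h => ?_
  have h2 := congrArg (pullA (inv v.hom.left)) (congrArg Subtype.val h)
  simp only [CubeConsLib.pullA_comp, IsIso.inv_hom_id, CubeConsLib.pullA_id] at h2
  exact Groth.Agent.S16120.toA_injective h2

end Groth.Agent.FinPicGrp
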