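import Groth.Agent.CubeConsLib.Hom
import Groth.Agent.FinPicLib.SemiLocal
import Groth.Agent.OmegaAffLib.AffHom
import Groth.Agent.TwistLib.SpecSections
import Groth.Agent.AmpleThLib.Pow
import Mathlib.RingTheory.Ideal.Operations

/-!
# Invertible modules on integral affine schemes as ideals of functions
-/

set_option autoImplicit false
set_option linter.style.haveILetI false
set_option backward.isDefEq.respectTransparency false
set_option maxHeartbeats 1000000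

noncomputable section

universe u

open CategoryTheory AlgebraicGeometry TopologicalSpace Opposite
open AmpleLib (res GenAt GenOn shT)
open CubeConsLib (clA PicA)

namespace Groth.Agent.FinPicGrp

variable {X : Scheme.{u}} [IsAffine X]

variable (X) in
/-- The point of a prime ideal of global functions. -/
def ptOf (p : PrimeSpectrum Γ(X, ⊤)) : X := (isAffineOpen_top X).fromSpec p

theorem mem_basicOpen_ptOf (p : PrimeSpectrum Γ(X, ⊤)) (g : Γ(X, ⊤)) :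
    ptOf X p ∈ X.basicOpen g ↔ g ∉ p.asIdeal := by
  show p ∈ (isAffineOpen_top X).fromSpec ⁻¹ᵁ X.basicOpen g ↔ _
  rw [(isAffineOpen_top X).fromSpec_preimage_basicOpen g]
  rfl

variable {M : X.Modules}

theorem exists_gen (hM : PicF.IsInvertible M) (x : X) :
    ∃ σ : Γ(M, ⊤), GenAt M σ (show x ∈ (⊤ : X.Opens) from trivial) := by
  obtain ⟨σ, hσ⟩ := FinPicLib.exists_genAt_finite hM ⟨⊤, isAffineOpen_top X⟩ (Set.finite_singleton x)
    (fun _ _ => trivial) (fun a ha b hb _ => (Set.mem_singleton_iff.1 ha).trans (Set.mem_singleton_iff.1 hb).symm)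
  exact ⟨σ, hσ x rfl⟩

theorem exists_gen_basicOpen (hM : PicF.IsInvertible M) (x : X) :
    ∃ (σ : Γ(M, ⊤)) (g : Γ(X, ⊤)), x ∈ X.basicOpen g ∧ X.basicOpen g ≤ TwistLib.genSet hM σ := by
  obtain ⟨σ, hσ⟩ := exists_gen hM x
  obtain ⟨g, hg, hxg⟩ := (isAffineOpen_top X).exists_basicOpen_le (V := TwistLib.genSet hM σ) ⟨x, hσ⟩ trivial
  exact ⟨σ, g, hxg, hg⟩

theorem exists_gen_cover (hM : PicF.IsInvertible M) : ∃ S : Finset Γ(M, ⊤),
    ∀ x : X, ∃ σ ∈ S, GenAt M σ (show x ∈ (⊤ : X.Opens) from trivial) := by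
  classical
  choose σ hσ using exists_gen hM
  obtain ⟨t, ht⟩ := isCompact_univ.elim_finite_subcover (fun x => (TwistLib.genSet hM (σ x) : Set X))
    (fun x => (TwistLib.genSet hM (σ x)).2) (fun x _ => Set.mem_iUnion.2 ⟨x, hσ x⟩)
  refine ⟨t.image σ, fun x => ?_⟩
  obtain ⟨y, hy, hxy⟩ := Set.mem_iUnion₂.1 (ht (Set.mem_univ x))
  exact ⟨σ y, Finset.mem_image_of_mem σ hy, hxy⟩

/-- A section is a multiple of a section generating on `D(g)`, up to a power of `g`. -/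
theorem exists_pow_smul (hM : PicF.IsInvertible M) {σ : Γ(M, ⊤)} {g : Γ(X, ⊤)}
    (hg : X.basicOpen g ≤ TwistLib.genSet hM σ) (t : Γ(M, ⊤)) :
    ∃ (N : ℕ) (b : Γ(X, ⊤)), g ^ N • t = b • σ := by
  haveI := TwistLib.isQCoh_of_isInvertible hM
  have hgen : GenOn M (res M (le_top : X.basicOpen g ≤ ⊤) σ) := by
    have h := (TwistLib.genSet_genOn hM σ).res hg
    rwa [AmpleLib.res_res] at h
  obtain ⟨r, hr⟩ := AmpleThLib.exists_coeff t hgen
  haveI := (isAffineOpen_top X).isLocalization_basicOpen g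
  obtain ⟨⟨a, _, n, rfl⟩, h⟩ := IsLocalization.surj (Submonoid.powers g) r
  have h0 : res M (le_top : X.basicOpen g ≤ ⊤) (g ^ n • t - a • σ) = 0 := by
    show M.presheaf.map _ _ = 0
    rw [map_sub, sub_eq_zero]
    show res M _ (g ^ n • t) = res M _ (a • σ)
    rw [AmpleLib.res_smul, AmpleLib.res_smul, ← hr, smul_smul, mul_comm]
    exact congrArg (· • res M _ σ) h
  obtain ⟨m, hm⟩ := (QCohLib.localizingAt_of_isQCoh (isAffineOpen_top X) M g).eq_zero _ h0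
  refine ⟨m + n, g ^ m * a, ?_⟩
  simp only [homOfLE_refl, op_id, CategoryTheory.Functor.map_id] at hm
  change g ^ m • (g ^ n • t - a • σ) = 0 at hm
  rwa [smul_sub, sub_eq_zero, smul_smul, smul_smul, ← pow_add] at hm

/-- Sections generating at every point span the global sections. -/
theorem span_eq_top (hM : PicF.IsInvertible M) {ι : Type*} (τ : ι → Γ(M, ⊤))
    (hτ : ∀ x : X, ∃ i, GenAt M (τ i) (show x ∈ (⊤ : X.Opens) from trivial)) :
    Submodule.span Γ(X, ⊤) (Set.range τ) = ⊤ := by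
  refine eq_top_iff.2 fun t _ => ?_
  let S := Submodule.span Γ(X, ⊤) (Set.range τ)
  let C : Ideal Γ(X, ⊤) := S.comap (LinearMap.toSpanSingleton Γ(X, ⊤) _ t)
  suffices hC : C = ⊤ by
    have : (1 : Γ(X, ⊤)) ∈ C := hC ▸ Submodule.mem_top
    simpa [C] using this
  by_contra hC
  obtain ⟨m, hm, hCm⟩ := Ideal.exists_le_maximal C hC
  let x := ptOf X ⟨m, hm.isPrime⟩
  obtain ⟨i, hi⟩ := hτ x
  obtain ⟨g, hg, hxg⟩ := (isAffineOpen_top X).exists_basicOpen_le (V := TwistLib.genSet hM (τ i)) ⟨x, hi⟩ trivial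
  obtain ⟨N, b, hb⟩ := exists_pow_smul hM hg t
  have hmem : g ^ N ∈ C := by
    show g ^ N • t ∈ S
    rw [hb]
    exact S.smul_mem _ (Submodule.subset_span ⟨i, rfl⟩)
  exact (mem_basicOpen_ptOf ⟨m, hm.isPrime⟩ g).1 hxg (hm.isPrime.mem_of_pow_mem N (hCm hmem))

theorem finite_sections (hM : PicF.IsInvertible M) : ∃ S : Finset Γ(M, ⊤),
    Submodule.span Γ(X, ⊤) (S : Set Γ(M, ⊤)) = ⊤ := by
  obtain ⟨S, hS⟩ := exists_gen_cover hM
  refine ⟨S, ?_⟩
  have h := span_eq_top hM (fun σ : S => σ.1) fun x => by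
    obtain ⟨σ, hσ, hx⟩ := hS x; exact ⟨⟨σ, hσ⟩, hx⟩
  rwa [Subtype.range_coe_subtype, Finset.setOf_mem] at h

variable [IsIntegral X]

omit [IsAffine X] in
theorem genAt_ne_zero {σ : Γ(M, ⊤)} {x : X} (h : GenAt M σ (show x ∈ (⊤ : X.Opens) from trivial)) : σ ≠ 0 := by
  rintro rfl
  refine one_ne_zero (α := X.presheaf.stalk x) (h.1 ?_)
  simp only [map_zero, smul_zero]

theorem exists_ne_zero (hM : PicF.IsInvertible M) : ∃ σ : Γ(M, ⊤), σ ≠ 0 := by
  obtain ⟨σ, hσ⟩ := exists_gen hM (genericPoint X)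
  exact ⟨σ, genAt_ne_zero hσ⟩

theorem eq_zero_of_smul (hM : PicF.IsInvertible M) {r : Γ(X, ⊤)} (hr : r ≠ 0) {t : Γ(M, ⊤)}
    (h : r • t = 0) : t = 0 := by
  refine TwistLib.mod_ext M fun x hx => ?_
  obtain ⟨σ, hσ⟩ := exists_gen hM x
  obtain ⟨c, hc⟩ := hσ.2 (M.presheaf.germ ⊤ x hx t)
  dsimp only at hc
  have h1 := congrArg (M.presheaf.germ ⊤ x hx) h
  rw [AmpleLib.germ_smul, ← hc, smul_smul, map_zero] at h1
  have h2 : X.presheaf.germ ⊤ x hx r * c = 0 := hσ.1 (h1.trans (zero_smul _ _).symm)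
  have hr' : X.presheaf.germ ⊤ x hx r ≠ 0 := fun h3 =>
    hr (germ_injective_of_isIntegral X x (U := ⊤) hx (h3.trans (map_zero _).symm))
  rw [map_zero, ← hc, (mul_eq_zero.1 h2).resolve_left hr', zero_smul]

theorem smul_cancel (hM : PicF.IsInvertible M) {σ : Γ(M, ⊤)} (hσ : σ ≠ 0) {a b : Γ(X, ⊤)}
    (h : a • σ = b • σ) : a = b := by
  by_contra hne
  exact hσ (eq_zero_of_smul hM (sub_ne_zero.2 hne) (by rw [sub_smul, h, sub_self]))

/-- Multiples of a fixed section after multiplying by `G` give an injective functional. -/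
theorem exists_emb (hM : PicF.IsInvertible M) {ι : Type*} (τ : ι → Γ(M, ⊤))
    (hτ : ∀ x : X, ∃ i, GenAt M (τ i) (show x ∈ (⊤ : X.Opens) from trivial))
    (σ₀ : Γ(M, ⊤)) (G : Γ(X, ⊤)) (hG : G ≠ 0) (b : ι → Γ(X, ⊤)) (hb : ∀ i, G • τ i = b i • σ₀) :
    ∃ χ : Γ(M, ⊤) →ₗ[Γ(X, ⊤)] Γ(X, ⊤), Function.Injective χ ∧ (∀ t, G • t = χ t • σ₀) ∧
      (∀ i, χ (τ i) = b i) ∧ LinearMap.range χ = Ideal.span (Set.range b) := by
  have hσ : σ₀ ≠ 0 := fun h0 => by
    obtain ⟨i, hi⟩ := hτ (genericPoint X)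
    exact genAt_ne_zero hi (eq_zero_of_smul hM hG (by rw [hb, h0, smul_zero]))
  have hspan := span_eq_top hM τ hτ
  have hex : ∀ t, ∃ c : Γ(X, ⊤), G • t = c • σ₀ := fun t => by
    have ht : t ∈ Submodule.span Γ(X, ⊤) (Set.range τ) := hspan.symm ▸ Submodule.mem_top
    induction ht using Submodule.span_induction with
    | mem t ht => obtain ⟨i, rfl⟩ := ht; exact ⟨b i, hb i⟩
    | zero => exact ⟨0, by rw [smul_zero, zero_smul]⟩
    | add s t _ _ hs ht =>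
      obtain ⟨c, hc⟩ := hs; obtain ⟨d, hd⟩ := ht
      exact ⟨c + d, by rw [smul_add, hc, hd, add_smul]⟩
    | smul r t _ ht =>
      obtain ⟨c, hc⟩ := ht
      exact ⟨r * c, by rw [smul_comm, hc, smul_smul]⟩
  choose f hf using hex
  let χ : Γ(M, ⊤) →ₗ[Γ(X, ⊤)] Γ(X, ⊤) :=
    { toFun := f
      map_add' := fun s t => smul_cancel hM hσ (by rw [← hf, smul_add, hf, hf, add_smul])
      map_smul' := fun r t => smul_cancel hM hσ (by
        rw [← hf, smul_comm, hf, RingHom.id_apply, smul_eq_mul, smul_smul]) }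
  have hval : ∀ i, χ (τ i) = b i := fun i => smul_cancel hM hσ ((hf _).symm.trans (hb i))
  refine ⟨χ, (injective_iff_map_eq_zero χ).2 fun t ht => eq_zero_of_smul hM hG ?_, hf, hval, ?_⟩
  · rw [hf, show f t = 0 from ht, zero_smul]
  · rw [LinearMap.range_eq_map, ← hspan, Submodule.map_span, ← Set.range_comp]
    exact congrArg (fun h : ι → Γ(X, ⊤) => Submodule.span _ (Set.range h)) (funext hval)

/-- A functional which is nonzero on a given basic open where a section generates. -/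
theorem exists_emb_of_genSet (hM : PicF.IsInvertible M) (σ₀ : Γ(M, ⊤)) {g : Γ(X, ⊤)} (hg0 : g ≠ 0)
    (hg : X.basicOpen g ≤ TwistLib.genSet hM σ₀) :
    ∃ χ : Γ(M, ⊤) →ₗ[Γ(X, ⊤)] Γ(X, ⊤), Function.Injective χ ∧ ∃ N : ℕ, χ σ₀ = g ^ N := by
  classical
  obtain ⟨S, hS⟩ := exists_gen_cover hM
  choose N b hb using exists_pow_smul hM hg
  let m := ∑ σ ∈ S, N σ
  have hle : ∀ σ : S, N σ.1 ≤ m := fun σ => Finset.single_le_sum (fun _ _ => Nat.zero_le _) σ.2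
  obtain ⟨χ, hinj, hχ, -, -⟩ := exists_emb hM (fun σ : S => σ.1) (fun x => by
      obtain ⟨σ, hσ, hx⟩ := hS x; exact ⟨⟨σ, hσ⟩, hx⟩) σ₀ (g ^ m) (pow_ne_zero _ hg0)
    (fun σ => g ^ (m - N σ.1) * b σ.1) fun σ => by
      rw [mul_smul, ← hb, smul_smul, ← pow_add, Nat.sub_add_cancel (hle σ)]
  refine ⟨χ, hinj, m, smul_cancel hM (fun h0 => ?_) (hχ σ₀).symm⟩
  obtain ⟨σ, hσ⟩ := exists_ne_zero hM
  exact hσ (eq_zero_of_smul hM (pow_ne_zero m hg0) (by rw [hχ, h0, smul_zero]))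

theorem emb_comm {χ : Γ(M, ⊤) →ₗ[Γ(X, ⊤)] Γ(X, ⊤)} (hχ : Function.Injective χ) (s t : Γ(M, ⊤)) :
    χ t • s = χ s • t :=
  hχ (by rw [map_smul, map_smul, smul_eq_mul, smul_eq_mul, mul_comm])

/-- The image of an invertible module is an invertible ideal. -/
theorem exists_inverse (hM : PicF.IsInvertible M) {χ : Γ(M, ⊤) →ₗ[Γ(X, ⊤)] Γ(X, ⊤)}
    (hχ : Function.Injective χ) (s : Γ(M, ⊤)) :
    ∃ J : Ideal Γ(X, ⊤), LinearMap.range χ * J = Ideal.span {χ s} := by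
  let I : Ideal Γ(X, ⊤) := LinearMap.range χ
  let J : Ideal Γ(X, ⊤) := (Ideal.span {χ s}).colon (I : Set Γ(X, ⊤))
  refine ⟨J, le_antisymm (Ideal.mul_le.2 fun a ha j hj => ?_) ((Ideal.span_singleton_le_iff_mem _).2 ?_)⟩
  · rw [mul_comm]
    exact (Submodule.mem_colon.1 hj) a ha
  let C : Ideal Γ(X, ⊤) := (I * J).colon {χ s}
  suffices hC : C = ⊤ by
    have h1 : (1 : Γ(X, ⊤)) ∈ C := hC ▸ Submodule.mem_top
    have h2 := Submodule.mem_colon.1 h1 (χ s) rfl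
    rwa [one_smul] at h2
  by_contra hC
  obtain ⟨m, hm, hCm⟩ := Ideal.exists_le_maximal C hC
  obtain ⟨σ, g, hxg, hg⟩ := exists_gen_basicOpen hM (ptOf X ⟨m, hm.isPrime⟩)
  have hgm : g ∉ m := (mem_basicOpen_ptOf ⟨m, hm.isPrime⟩ g).1 hxg
  have hg0 : g ≠ 0 := fun h => hgm (h ▸ zero_mem m)
  obtain ⟨N, b, hb⟩ := exists_pow_smul hM hg s
  have hbs : g ^ N * χ s = b * χ σ := by simpa [map_smul] using congrArg χ hb
  classical
  obtain ⟨S, hS⟩ := finite_sections hM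
  choose N' b' hb' using exists_pow_smul hM hg
  let n := ∑ t ∈ S, N' t
  have hj : g ^ n * b ∈ J := by
    refine Submodule.mem_colon.2 fun a ha => ?_
    obtain ⟨t, rfl⟩ := LinearMap.mem_range.1 ha
    have ht : t ∈ Submodule.span Γ(X, ⊤) (S : Set Γ(M, ⊤)) := hS.symm ▸ Submodule.mem_top
    refine Submodule.span_induction (p := fun t _ => (g ^ n * b) • χ t ∈ Ideal.span {χ s})
      (fun t ht => ?_) (by simp) (fun _ _ _ _ h h' => by rw [map_add, smul_add]; exact add_mem h h')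
      (fun r t _ h => by rw [map_smul, smul_comm]; exact Ideal.mul_mem_left _ r h) ht
    refine Ideal.mem_span_singleton.2 ⟨g ^ (n - N' t) * b' t * g ^ N, ?_⟩
    have hbt : g ^ N' t * χ t = b' t * χ σ := by simpa [map_smul] using congrArg χ (hb' t)
    rw [smul_eq_mul, ← Nat.sub_add_cancel
      (show N' t ≤ n from Finset.single_le_sum (fun _ _ => Nat.zero_le _) ht), pow_add,
      Nat.add_sub_cancel]
    linear_combination g ^ (n - N' t) * b * hbt - g ^ (n - N' t) * b' t * hbs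
  have hmem : g ^ (n + N) ∈ C := Submodule.mem_colon.2 fun a ha => by
    rw [Set.mem_singleton_iff.1 ha, smul_eq_mul,
      show g ^ (n + N) * χ s = χ σ * (g ^ n * b) by linear_combination g ^ n * hbs]
    exact Ideal.mul_mem_mul (LinearMap.mem_range_self χ σ) hj
  exact hgm (hm.isPrime.mem_of_pow_mem _ (hCm hmem))

/-- `I` is the ideal of sections of the class `c`. -/
def Rep (c : PicA X) (I : Ideal Γ(X, ⊤)) : Prop :=
  ∃ (L : X.Modules) (hL : PicF.IsInvertible L) (χ : Γ(L, ⊤) →ₗ[Γ(X, ⊤)] Γ(X, ⊤)),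
    Function.Injective χ ∧ clA hL = c ∧ LinearMap.range χ = I

theorem Rep.zero {d : Γ(X, ⊤)} (hd : d ≠ 0) : Rep (0 : PicA X) (Ideal.span {d}) := by
  let μd : Γ(Coh.structureModule X, ⊤) →ₗ[Γ(X, ⊤)] Γ(X, ⊤) :=
    { toFun := fun r => (show Γ(X, ⊤) from r) * d
      map_add' := fun a b => add_mul (show Γ(X, ⊤) from a) (show Γ(X, ⊤) from b) d
      map_smul' := fun a b => mul_assoc a (show Γ(X, ⊤) from b) d }
  refine ⟨_, CubeConsLib.isInvertible_one X, μd,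
    fun a b h => mul_right_cancel₀ (M₀ := Γ(X, ⊤)) hd h,
    CubeConsLib.clA_one X, ?_⟩
  ext x
  rw [LinearMap.mem_range, Ideal.mem_span_singleton']
  exact ⟨fun ⟨r, h⟩ => ⟨r, h⟩, fun ⟨r, h⟩ => ⟨r, h⟩⟩

theorem Rep.mul {c d : PicA X} {I K : Ideal Γ(X, ⊤)} (h : Rep c I) (h' : Rep d K) : Rep (c + d) (I * K) := by
  obtain ⟨L, hL, χ, hχ, rfl, rfl⟩ := h
  obtain ⟨N, hN, ψ, hψ, rfl, rfl⟩ := h'
  obtain ⟨s₀, hs₀⟩ := exists_ne_zero hL
  obtain ⟨t₀, ht₀⟩ := exists_ne_zero hN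
  have hLN := HilbPolyLib.isInvertible_tensor hL hN
  obtain ⟨ω, hω, -, -, hrange⟩ := exists_emb hLN (fun p : Γ(L, ⊤) × Γ(N, ⊤) => shT p.1 p.2)
    (fun x => by
      obtain ⟨σ, hσ⟩ := exists_gen hL x
      obtain ⟨τ, hτ⟩ := exists_gen hN x
      exact ⟨(σ, τ), hσ.tensor hτ⟩)
    (shT s₀ t₀) (χ s₀ * ψ t₀)
    (mul_ne_zero ((map_ne_zero_iff χ hχ).2 hs₀) ((map_ne_zero_iff ψ hψ).2 ht₀))
    (fun p => χ p.1 * ψ p.2) fun p => by
      rw [← AmpleLib.shT_smul, ← AmpleLib.shT_smul, emb_comm hχ, emb_comm hψ]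
  refine ⟨_, hLN, ω, hω, CubeConsLib.clA_tensor hL hN, hrange.trans (le_antisymm ?_ ?_)⟩
  · rw [Ideal.span_le]
    rintro _ ⟨p, rfl⟩
    exact Ideal.mul_mem_mul (LinearMap.mem_range_self χ p.1) (LinearMap.mem_range_self ψ p.2)
  · refine Ideal.mul_le.2 fun a ha b hb => ?_
    obtain ⟨s, rfl⟩ := LinearMap.mem_range.1 ha
    obtain ⟨t, rfl⟩ := LinearMap.mem_range.1 hb
    exact Ideal.subset_span ⟨(s, t), rfl⟩

theorem Rep.pow {c : PicA X} {I : Ideal Γ(X, ⊤)} (h : Rep c I) : ∀ n : ℕ, Rep (n • c) (I ^ n)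
  | 0 => by
    rw [zero_nsmul, pow_zero, Ideal.one_eq_top, ← Ideal.span_singleton_one]
    exact Rep.zero one_ne_zero
  | n + 1 => by
    rw [succ_nsmul, pow_succ]
    exact (h.pow n).mul h

omit [IsIntegral X] in
theorem exists_hom_of_equiv {L N : X.Modules} (hL : PicF.IsInvertible L) (hN : PicF.IsInvertible N)
    (e : Γ(L, ⊤) ≃ₗ[Γ(X, ⊤)] Γ(N, ⊤)) : Nonempty (L ≅ N) := by
  haveI := TwistLib.isQCoh_of_isInvertible hL
  haveI := TwistLib.isQCoh_of_isInvertible hN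
  obtain ⟨f, hf, -⟩ := OmegaAffLib.exists_hom_of_top L N e.toLinearMap.toAddMonoidHom fun a t => e.map_smul a t
  obtain ⟨g, hg, -⟩ := OmegaAffLib.exists_hom_of_top N L e.symm.toLinearMap.toAddMonoidHom
    fun a t => e.symm.map_smul a t
  refine ⟨⟨f, g, ?_, ?_⟩⟩
  · refine (OmegaAffLib.exists_hom_of_top L L (AddMonoidHom.id _) fun _ _ => rfl).unique (fun t => ?_) fun t => rfl
    show g.app ⊤ (f.app ⊤ t) = t
    rw [hf, hg]; exact e.symm_apply_apply t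
  · refine (OmegaAffLib.exists_hom_of_top N N (AddMonoidHom.id _) fun _ _ => rfl).unique (fun t => ?_) fun t => rfl
    show f.app ⊤ (g.app ⊤ t) = t
    rw [hg, hf]; exact e.apply_symm_apply t

theorem Rep.eq {c d : PicA X} {I : Ideal Γ(X, ⊤)} (h : Rep c I) (h' : Rep d I) : c = d := by
  obtain ⟨L, hL, χ, hχ, rfl, rfl⟩ := h
  obtain ⟨N, hN, ψ, hψ, rfl, hr⟩ := h'
  exact (CubeConsLib.clA_eq_iff hL hN).2 (exists_hom_of_equiv hL hN ((LinearEquiv.ofInjective χ hχ).trans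
    ((LinearEquiv.ofEq _ _ hr.symm).trans (LinearEquiv.ofInjective ψ hψ).symm)))

theorem Rep.eq_zero {c : PicA X} {d : Γ(X, ⊤)} (hd : d ≠ 0) (h : Rep c (Ideal.span {d})) : c = 0 :=
  h.eq (Rep.zero hd)

end Groth.Agent.FinPicGrp
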